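import Cfsg.Agent.SP.Mon.Iface
import Cfsg.Agent.SP.Mon.NL.Pass
import Cfsg.Agent.H436.MonP41R

/-! # S5755, the Monster, 2-local subgroups: the centraliser of a `2B`-involution has a base of size two -/

set_option autoImplicit false
set_option maxRecDepth 100000

namespace Cfsg.Agent.SP.Mon.Two

open Cfsg.Agent.BpSpor.MBigModel (MG zz cls)
open Cfsg.Agent.LThreeB.Row (TA)
open Cfsg.Agent.H995.CopEngine (AllKnown)
open Cfsg.Agent.SP.Mon.NL
open Subgroup (centralizer mem_centralizer_singleton_iff)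

theorem cent41 (hK : AllKnown.{0}) {x : MG} (hx : orderOf x = 41) {c : MG} (hc : c * x = x * c) : c ^ 41 = 1 := by
  have h1 := cent_exact hK (by norm_num) (by norm_num) hx
  have h2 : Nat.card (centralizer ({x} : Set MG)) = 41 := by simpa using h1
  rw [← orderOf_dvd_iff_pow_eq_one, ← h2]
  exact Subgroup.orderOf_dvd_natCard _ (mem_centralizer_singleton_iff.2 hc)

theorem exists_inv41 (hK : AllKnown.{0}) : ∃ x s : MG, orderOf x = 41 ∧ s * s = 1 ∧ s * x * s⁻¹ = x⁻¹ := by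
  obtain ⟨x, h1, h2⟩ := H436.MonP41.real
  obtain ⟨c, h3, h4⟩ := order_dvd hK (by norm_num) (by norm_num) h1
  have h5 : c = 41 := by simpa using h3
  have hx : orderOf x = 41 := Nat.dvd_antisymm (h5 ▸ h4) h1
  obtain ⟨k, hk⟩ := isConj_iff.1 h2
  have h6 : k * k * x = x * (k * k) := by
    rw [← mul_inv_eq_iff_eq_mul]
    calc k * k * x * (k * k)⁻¹ = k * (k * x * k⁻¹) * k⁻¹ := by group
      _ = k * x⁻¹ * k⁻¹ := by rw [hk]
      _ = (k * x * k⁻¹)⁻¹ := by group
      _ = x := by rw [hk, inv_inv]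
  refine ⟨x, k ^ 41, hx, ?_, ?_⟩
  · rw [← cent41 hK hx h6, ← pow_two, ← pow_two, ← pow_mul, ← pow_mul]
  · have h7 : Commute (k ^ 40) x := by
      have := (show Commute (k * k) x from h6).pow_left 20
      rwa [← pow_two, ← pow_mul] at this
    calc k ^ 41 * x * (k ^ 41)⁻¹ = k * (k ^ 40 * x) * (k ^ 40)⁻¹ * k⁻¹ := by group
      _ = x⁻¹ := by rw [h7.eq, ← hk]; group

/-- **No pair in the centraliser of a `2B`-involution.** -/
theorem noPair_cent (hK : AllKnown.{0}) {c g : MG} (hc : g * zz * g⁻¹ = c) : NoPairIn (centralizer ({c} : Set MG)) := by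
  have := BpSpor.MBigModel.finite
  obtain ⟨x, s, hx, hs, hsx⟩ := exists_inv41 hK
  have h41 : x ^ 41 = 1 := hx ▸ pow_orderOf_eq_one x
  have hs1 : s ≠ 1 := by
    rintro rfl
    have h1 : x ^ 2 = 1 := by rw [pow_two, ← eq_inv_iff_mul_eq_one, ← hsx]; simp
    have := orderOf_dvd_of_pow_eq_one h1
    rw [hx] at this
    norm_num at this
  have e : (x ^ 21)⁻¹ * s * (x ^ 21)⁻¹⁻¹ = s * x := by
    have h1 : s * x ^ 21 * s⁻¹ = (x ^ 21)⁻¹ := by rw [← conj_pow, hsx, inv_pow]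
    have h2 : (x ^ 21)⁻¹ * s = s * x ^ 21 := by rw [← h1, inv_mul_cancel_right]
    rw [h2, inv_inv, mul_assoc, ← pow_add, show 21 + 21 = 41 + 1 from rfl, pow_succ, h41, one_mul]
  have ho := order_two (by rw [pow_two, hs]) hs1
  have hn : ¬ TA s := fun h => by
    have h1 := ta_mul_order h (e ▸ ta_conj h (x ^ 21)⁻¹)
    rw [← mul_assoc, hs, one_mul, hx] at h1
    norm_num at h1
  obtain ⟨k, hk⟩ := (cls ho).resolve_right hn
  have h0 : NoPairIn (centralizer ({s} : Set MG)) := fun A B hA h => by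
    refine h.false_of_base hA (x ^ 21)⁻¹ fun y hy hy' => ?_
    have h1 : y * s = s * y := mem_centralizer_singleton_iff.1 hy
    have h2 := mem_centralizer_singleton_iff.1 hy'
    have h3 : y * (s * x) = s * x * y := by
      rw [← e]
      calc y * ((x ^ 21)⁻¹ * s * (x ^ 21)⁻¹⁻¹) = (x ^ 21)⁻¹ * ((x ^ 21)⁻¹⁻¹ * y * (x ^ 21)⁻¹ * s) * (x ^ 21)⁻¹⁻¹ := by
            group
        _ = _ := by rw [h2]; group
    rw [← mul_assoc, h1, mul_assoc, mul_assoc, mul_right_inj] at h3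
    have h4 := orderOf_dvd_of_pow_eq_one (cent41 hK hx h3)
    have h5 := Subgroup.orderOf_dvd_natCard _ hy
    rw [card_cent_b ho hn] at h5
    exact orderOf_eq_one_iff.1 (Nat.eq_one_of_dvd_coprimes (by norm_num) h4 h5)
  refine h0.of_conj (g * k⁻¹) fun y hy => mem_centralizer_singleton_iff.2 ?_
  have h1 := mem_centralizer_singleton_iff.1 hy
  rw [← hc] at h1
  rw [← hk]
  calc (g * k⁻¹)⁻¹ * y * (g * k⁻¹) * (k * zz * k⁻¹) = (g * k⁻¹)⁻¹ * (y * (g * zz * g⁻¹)) * (g * k⁻¹) := by group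
    _ = _ := by rw [h1]; group

end Cfsg.Agent.SP.Mon.Two
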