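import Cfsg.Agent.SP.Mon.Two.TA
import Cfsg.Agent.SP.Mon.Two.Tr
import Cfsg.Agent.SP.Mon.Two.Base
import Cfsg.Agent.R2.H10.Mon.Final

/-! # S5755, the Monster: box `L 2` -/

set_option autoImplicit false
set_option maxRecDepth 100000

namespace Cfsg.Agent.SP.Mon.Two

open Cfsg Cfsg.Agent.MonsterX
open Cfsg.Agent.MonsterU.Lam2 (L2)
open Cfsg.Agent.R2.H4.Mon.Frm (Fr TwoB noB_smul)
open Cfsg.Agent.R2.H4.Mon.GeoInst
open Cfsg.Agent.R2.H10.Mon
open Cfsg.Agent.R2.M7
open Cfsg.Agent.BpSpor.MBigModel (MG zz pi chart card_M)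
open Cfsg.Agent.LThreeB.Row (TA)
open Cfsg.Agent.LThreeMB (fr fr_conj)
open Cfsg.Agent.H995.CopEngine (AllKnown)
open Cfsg.Agent.SP.Mon.NL
open Cfsg.Spor (Co1)
open Subgroup (centralizer normalizer closure mem_centralizer_singleton_iff)

theorem exists_frame : ∃ (eta' : MG → L2) (pi' : centralizer ({zz} : Set MG) →* Co1) (y τ : MG)
    (F : Fr QQ zz eta' pi' y τ), TE F.ch τ ∧ ∀ x, x * zz = zz * x → orderOf x = 3 → Big x → fr (pp pi' x) = 2 ^ 12 := by
  have := BpSpor.MBigModel.finite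
  obtain ⟨g, h1, h2, -⟩ := MonsterU.Fused.exists_type_four chart
  obtain ⟨s, τ, h3, h4, h5⟩ := MonsterU.AmalSideOf.exists_frame chart h1 h2 ⟨g, rfl⟩
  obtain ⟨τ', F, hE⟩ := Fr.exists_TE ⟨chart.smul s, h1, h5, h3, h4, noB_smul R2.H4.Mon.MonFr.noB_model s⟩
  refine ⟨_, _, _, τ', F, hE, fun x hx ho hb => ?_⟩
  rw [← big_fr hx ho hb, pp_eq hx, pp_eq hx]
  exact fr_conj s _

theorem prodA {w : MG} (hw : TwoB zz w) : {t | TA t ∧ TA (t * w)}.ncard ≤ 196560 := by
  have := BpSpor.MBigModel.finite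
  rcases {t | TA t ∧ TA (t * w)}.eq_empty_or_nonempty with h | ⟨t, h1, h2⟩
  · rw [h, Set.ncard_empty]; exact Nat.zero_le _
  have e : t * (t * w) = w := by rw [← mul_assoc, ta_sq h1, one_mul]
  have h3 := fst_two (Y := {t | TA t}) (fun _ h => h) h1 h2 (by
    obtain ⟨g, rfl⟩ := hw
    rw [e, ord_conj, BpSpor.MBigModel.orderOf_zz]) (by rw [e]; exact fun h => (TwoA.isA_of_ta h).2.2 hw)
  rw [e] at h3
  refine le_trans (Set.ncard_le_ncard (fun u hu => ?_) (Set.toFinite _)) h3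
  exact ⟨hu.1, by rw [inv_eq_of_mul_eq_one_left (ta_sq hu.1)]; exact hu.2⟩

/-- the primes 2 and 3 -/
theorem five_le (hK : AllKnown.{0}) {A B : Subgroup MG} (h : IsPair A B) {N : MG → Prop} (hA : ∀ x ∈ A, N x)
    {a b a' b' : ℕ} (ha : {x | N x ∧ TA x}.ncard ≤ a) (hb : {x | N x ∧ x * x = 1}.ncard ≤ b)
    (ha' : {x | N x ∧ orderOf x = 3 ∧ Big x}.ncard ≤ a') (hb' : {x | N x ∧ orderOf x = 3}.ncard ≤ b')
    (h2 : a ^ 2 * cA + b ^ 2 * cB < NM)
    (h3 : a' ^ 2 * (3 * 1255205709190661721292800) + b' ^ 2 * (3 ^ 13 * (448345497600 * 2)) < 2 * NM) :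
    ∃ r, r.Prime ∧ 5 ≤ r ∧ r ∣ B.relIndex A := by
  have := BpSpor.MBigModel.finite
  obtain ⟨r, hr, hd⟩ := h.exists_prime
  refine ⟨r, hr, ?_, hd⟩
  rcases (by have := hr.two_le; omega : r = 2 ∨ r = 3 ∨ r = 4 ∨ 5 ≤ r) with rfl | rfl | rfl | h'
  · refine absurd (two_le h hd
      (le_trans (Set.ncard_le_ncard (fun x hx => And.intro (hA x hx.1) hx.2) (Set.toFinite _)) ha)
      (le_trans (Set.ncard_le_ncard (fun x hx => And.intro (hA x hx.1) ?_) (Set.toFinite _)) hb)) (not_le.2 h2)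
    rw [← pow_two, ← hx.2.1, pow_orderOf_eq_one]
  · have h1 := h.count_two hr hd Big (fun x t _ hx => big_conj hx t) a' _ b' _
      (le_trans (Set.ncard_le_ncard (fun x hx => And.intro (hA x hx.1) hx.2) (Set.toFinite _)) ha')
      (le_trans (Set.ncard_le_ncard (fun x hx => And.intro (hA x hx.1) hx.2.1) (Set.toFinite _)) hb')
      (fun x _ ho _ => cent_three_le hK ho) (fun x _ _ hx => not_lt.1 hx)
    rw [card_M] at h1
    exact absurd h1 (not_le.2 h3)
  · exact absurd hr (by norm_num)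
  · exact h'

theorem cent_seven (hK : AllKnown.{0}) {r : ℕ} (hr : r.Prime) (h7 : 7 ≤ r) {x : MG} (hx : orderOf x = r) :
    Nat.card (centralizer ({x} : Set MG)) ≤ 7 * 4030387200 := by
  obtain ⟨c, h1, h2⟩ := cent_all hK hr (by omega) hx
  have h3 : ∀ e ∈ tabE ++ tabO, 0 < e.2 ∧ (7 ≤ e.1 → e.2 ≤ 7 * 4030387200) := by decide +kernel
  exact (Nat.le_of_dvd (h3 _ h1).1 h2).trans ((h3 _ h1).2 h7)

theorem o3 {x : MG} (h : orderOf x = 3) : x ^ 3 = 1 := h ▸ pow_orderOf_eq_one x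

theorem oc {r : ℕ} (x g : MG) (h : orderOf x = r) : orderOf (g⁻¹ * x * g) = r := (orderOf_conj' g x).trans h

theorem ocB (x g : MG) (h : orderOf x = 3 ∧ Big x) : orderOf (g⁻¹ * x * g) = 3 ∧ Big (g⁻¹ * x * g) :=
  ⟨oc x g h.1, big_conj h.2 g⟩

section frame

variable (hK : AllKnown.{0}) {eta' : MG → L2} {pi' : centralizer ({zz} : Set MG) →* Co1} {y τ : MG}
  (F : Fr QQ zz eta' pi' y τ) (hE : TE F.ch τ)
  (h3 : ∀ x, x * zz = zz * x → orderOf x = 3 → Big x → fr (pp pi' x) = 2 ^ 12)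
  {o : golayCode} (ho : CoOneType.SignFacts.wt o = 8)

theorem invA (a b : MG) (h : Col (geo F.ch o) a b) :
    {x | TA x ∧ x * a = a * x ∧ x * b = b * x}.ncard ≤ 2 ^ 25 + 94326790 :=
  have := BpSpor.MBigModel.finite
  tr_pair F (fun x g hx => by simpa using ta_conj hx g⁻¹)
    (inv_class F (fun _ g hx => ta_conj hx g) (fun _ => ta_sq) ta_cent (by norm_num)) a b h

include hK hE h3 ho

/-- **Singular subgroups.** -/
theorem no_sing {X : Subgroup MG} (hS : (geo F.ch o).Sing X) {a b : MG} (ha : a ∈ X) (hb : b ∈ X) (ha1 : a ≠ 1)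
    (hb1 : b ≠ 1) (hab : b ≠ a) {A B : Subgroup MG} (h : IsPair A B) (hA : ∀ x ∈ A, Nm X x) : False := by
  have := BpSpor.MBigModel.finite
  have hB := basic F o
  have hc := sing_card F ho (Final.facts_all ho F hE).ark hS ha hb ha1 hb1 hab
  obtain ⟨r, hr, h5, hd⟩ := five_le hK h hA
    (sing_invA hB hS hc ha hb ha1 hb1 hab (fun _ g hx => ta_conj hx g) (fun _ => ta_sq) (invA F) fun _ => prodA)
    (sing_inv hB hS hc ha hb ha1 hb1 hab (tr_inv F))
    (sing_three hB hS hc ha hb ha1 hb1 hab (fun _ _ => ncard_SS F) (fun _ h => o3 h.1)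
      (tr_pair F ocB (three_stdA F h3)) (tr_rot F ocB fun _ => rot_stdA F h3))
    (sing_three hB hS hc ha hb ha1 hb1 hab (fun _ _ => ncard_SS F) (fun _ => o3)
      (tr_pair F oc (three_std F)) (tr_rot F oc fun _ => rot_std F)) (by norm_num) (by norm_num)
  have h1 := sing_big hB hS hc ha hb ha1 hb1 hab hr h5 (fun a b h => by
    have h2 := tr_pair F (P := fun _ => True) (fun _ _ _ => trivial) (by simpa using cent_line F) a b h
    simp only [true_and] at h2
    exact h2.trans (by norm_num)) (tr_plane F)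
  have h2 := big_le hK h hr h5 hd (le_trans (Set.ncard_le_ncard
    (fun x hx => And.intro (hA x hx.1) (hx.2 ▸ pow_orderOf_eq_one x)) (Set.toFinite _)) h1)
  norm_num at h2

/-- **Arks.** -/
theorem no_ark {O : Subgroup MG} (hO : O ∈ (geo F.ch o).Ark) {A B : Subgroup MG} (h : IsPair A B)
    (hA : ∀ x ∈ A, Nm O x) : False := by
  have := BpSpor.MBigModel.finite
  have hB := basic F o
  have hR := (Final.facts_all ho F hE).ark
  have hc := ark_527 F ho hE hO
  obtain ⟨r, hr, h5, hd⟩ := five_le hK h hA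
    (ark_invA hB hR hO hc (fun _ g hx => ta_conj hx g) (fun _ => ta_sq) (invA F) fun _ => prodA)
    (ark_inv hB hR hO hc (tr_inv F))
    (ark_fix hB hc Nat.prime_three (by norm_num) (fun _ h => o3 h.1)
      (tr_ark F ho hE ocB (ark_threeA F (facts ho) hE h3) hO))
    (ark_fix hB hc Nat.prime_three (by norm_num) (fun _ => o3) (tr_ark F ho hE oc (ark_three F (facts ho) hE) hO))
    (by norm_num) (by norm_num)
  rcases (by omega : r = 5 ∨ r = 6 ∨ 7 ≤ r) with rfl | rfl | h7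
  · have h1 := ark_fix hB hc hr (by norm_num) (fun x (h : orderOf x = 5) => h ▸ pow_orderOf_eq_one x)
      (tr_ark F ho hE oc (ark_five F (facts ho) hE) hO)
    have h2 := big_le hK h hr h5 hd (le_trans (Set.ncard_le_ncard
      (fun x hx => And.intro (hA x hx.1) hx.2) (Set.toFinite _)) h1)
    norm_num at h2
  · norm_num at hr
  · have h1 := ark_norm hB hc fun c h1 h2 => by
      simpa using tr_ark F ho hE (P := fun _ => True) (fun _ _ _ => trivial)
        (by simpa using ark_all F (facts ho) hE) hO c h1 h2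
    have h2 := h.count_one hr hd _ _ (le_trans (Set.ncard_le_ncard (fun x hx => hA x hx.1) (Set.toFinite _)) h1)
      fun x _ hx => cent_seven hK hr h7 hx
    rw [card_M] at h2
    have h4 := (Nat.mul_le_mul_right _ (by omega : 6 ≤ r - 1)).trans h2
    norm_num at h4

end frame

/-- **Box `L 2`.** -/
theorem boxL2 (hK : AllKnown.{0}) (hC : BoxC2A) (hN : BoxN2A2) : BoxL 2 := by
  intro A B V h hV
  have := BpSpor.MBigModel.finite
  obtain ⟨H, hH, hVH⟩ := H251.exists_isMaximalTwoLocal_ge (L := normalizer (V : Set MG)) ⟨V, hV.isPGroup, hV.ne_bot, rfl⟩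
  have hAH : A ≤ H := hV.le_normalizer.trans hVH
  obtain ⟨T, Z, D⟩ := Red.exists_data chart.large (IsPGroup.of_card chart.card_Q) hH
  by_cases hpt : ∃ c ∈ Z, TwoB zz c
  · obtain ⟨eta', pi', y, τ, F, hE, h3⟩ := exists_frame
    obtain ⟨o, ho⟩ := exists_octad
    have hZ : ∀ x ∈ A, Nm Z x := fun x hx a ha =>
      (Subgroup.mem_normalizer_iff.1 (D.hNZ ▸ hAH hx : x ∈ normalizer (Z : Set MG)) a).1 ha
    rcases Final.mainC ho F hE T Z ⟨D.hT, fun x hx t ht => (D.comm x hx t ht).symm,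
      fun x hx y hy => D.comm x hx y (D.hZT hy), D.sq, fun x hx h => D.closed hpt x hx fun t ht => (h t ht).symm,
      hpt⟩ with hO | ⟨X, hX, -, hS, hinv⟩
    · exact no_ark hK F hE h3 ho hO h hZ
    · obtain ⟨a, ha, ha1⟩ : ∃ a ∈ X, a ≠ 1 := by
        by_contra hn
        push Not at hn
        exact hX ((Subgroup.eq_bot_iff_forall _).2 hn)
      by_cases hb : ∃ b ∈ X, b ≠ 1 ∧ b ≠ a
      · obtain ⟨b, hb, hb1, hab⟩ := hb
        exact no_sing hK F hE h3 ho hS ha hb ha1 hb1 hab h fun x hx => hinv x (hZ x hx)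
      · push Not at hb
        obtain ⟨g, hg⟩ := hS.1 a ha ha1
        exact noPair_cent hK hg A B (fun x hx => mem_centralizer_singleton_iff.2
          (mul_inv_eq_iff_eq_mul.1 (hb _ (hinv x (hZ x hx) a ha) (conj_ne ha1)))) h
  · push Not at hpt
    rcases Top.two_a TwoA.afacts_model D hpt with ⟨a, ha, e⟩ | ⟨t, d, ht, hd, htd, hc, e⟩
    · refine hC a (TwoA.ta_of_isA ha) A B (fun x hx => mem_centralizer_singleton_iff.2 ?_) h
      have h1 : x ∈ normalizer ((closure {a} : Subgroup MG) : Set MG) := e ▸ hAH hx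
      have h2 := (Subgroup.mem_normalizer_iff.1 h1 a).1 (Subgroup.subset_closure rfl)
      rw [← Subgroup.zpowers_eq_closure] at h2
      obtain ⟨k, hk⟩ := h2
      have h4 : a ^ (2 : ℤ) = 1 := by rw [zpow_two, ha.1]
      have hk' : a ^ k = x * a * x⁻¹ := hk
      rcases Int.even_or_odd' k with ⟨m, rfl | rfl⟩
      · rw [zpow_mul, h4, one_zpow] at hk'
        exact absurd hk'.symm (conj_ne ha.2.1)
      · rw [zpow_add, zpow_mul, h4, one_zpow, one_mul, zpow_one] at hk'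
        exact mul_inv_eq_iff_eq_mul.1 hk'.symm
    · exact hN t d (TwoA.ta_of_isA ht) (TwoA.ta_of_isA hd) (TwoA.ta_of_isA htd) hc A B (e ▸ hAH) h

end Cfsg.Agent.SP.Mon.Two
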