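import Mathlib

/-! # S5755, the Monster, 2-local subgroups: counting lemmas -/

set_option autoImplicit false

namespace Cfsg.Agent.SP.Mon.Two

/-- **Double counting.** -/
theorem dc {A Ω : Type*} (Rel : A → Ω → Prop) {X : Set A} {Ob : Set Ω} (hX : X.Finite) (hO : Ob.Finite) {m f : ℕ}
    (h1 : ∀ ω ∈ Ob, m ≤ {a | a ∈ X ∧ Rel a ω}.ncard) (h2 : ∀ a ∈ X, {ω | ω ∈ Ob ∧ Rel a ω}.ncard ≤ f) :
    Ob.ncard * m ≤ X.ncard * f := by
  classical
  rw [Set.ncard_eq_toFinset_card _ hX, Set.ncard_eq_toFinset_card _ hO]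
  refine Finset.card_mul_le_card_mul (fun ω a => Rel a ω) (fun ω hω => ?_) (fun a ha => ?_)
  · refine (h1 ω (hO.mem_toFinset.1 hω)).trans (le_of_eq ?_)
    rw [← Set.ncard_coe_finset]
    congr 1
    ext a
    simp [Finset.bipartiteAbove]
  · refine le_trans (le_of_eq ?_) (h2 a (hX.mem_toFinset.1 ha))
    rw [← Set.ncard_coe_finset]
    congr 1
    ext a
    simp [Finset.bipartiteBelow]

/-- **Covering.** -/
theorem cov {A Ω : Type*} (Rel : A → Ω → Prop) {X : Set A} {P : Set Ω} (hX : X.Finite) (hP : P.Finite) {f : ℕ}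
    (h1 : ∀ a ∈ X, ∃ ω ∈ P, Rel a ω) (h2 : ∀ ω ∈ P, {a | a ∈ X ∧ Rel a ω}.ncard ≤ f) : X.ncard ≤ P.ncard * f := by
  have := dc (fun ω a => Rel a ω) hP hX (m := 1) (f := f) (fun a ha => ?_) h2
  · rwa [mul_one] at this
  · obtain ⟨ω, h3, h4⟩ := h1 a ha
    exact (Set.ncard_pos (hP.subset fun _ h => h.1)).2 ⟨ω, h3, h4⟩

/-- **Fibres.** -/
theorem fib_le {A Ω : Type*} (φ : A → Ω) {X : Set A} {P : Set Ω} (hX : X.Finite) (hP : P.Finite) {f : ℕ}
    (h1 : ∀ a ∈ X, φ a ∈ P) (h2 : ∀ ω ∈ P, {a | a ∈ X ∧ φ a = ω}.ncard ≤ f) : X.ncard ≤ P.ncard * f :=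
  cov (fun a ω => φ a = ω) hX hP (fun a ha => ⟨_, h1 a ha, rfl⟩) h2

theorem ncard_le_of_inj {A B : Type*} (φ : A → B) {X : Set A} {Y : Set B} (hY : Y.Finite) (h1 : ∀ a ∈ X, φ a ∈ Y)
    (h2 : ∀ a ∈ X, ∀ b ∈ X, φ a = φ b → a = b) : X.ncard ≤ Y.ncard :=
  Set.ncard_le_ncard_of_injOn φ h1 (fun a ha b hb h => h2 a ha b hb h) hY

theorem ncard_cases {A : Type*} {X Y Z : Set A} (hY : Y.Finite) (hZ : Z.Finite) (h : ∀ a ∈ X, a ∈ Y ∨ a ∈ Z) :
    X.ncard ≤ Y.ncard + Z.ncard :=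
  (Set.ncard_le_ncard (t := Y ∪ Z) h (hY.union hZ)).trans (Set.ncard_union_le Y Z)

section grp

variable {G : Type*} [Group G]

/-- conjugation of counted sets -/
theorem ncard_conj_le [Finite G] (k : G) {X Y : Set G} (h : ∀ x ∈ X, k⁻¹ * x * k ∈ Y) : X.ncard ≤ Y.ncard :=
  ncard_le_of_inj (fun x => k⁻¹ * x * k) (Set.toFinite _) h fun _ _ _ _ e => mul_left_cancel (mul_right_cancel e)

/-- **A fixed point** of an element of prime order on an invariant set. -/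
theorem exists_fix [Finite G] {r : ℕ} (hr : r.Prime) {x : G} (hx : x ^ r = 1) {S : Set G}
    (hS : ∀ a ∈ S, x * a * x⁻¹ ∈ S) (hn : ¬ r ∣ S.ncard) : ∃ a ∈ S, x * a = a * x := by
  classical
  have := Fact.mk hr
  have := Fintype.ofFinite S
  let f : S → S := fun a => ⟨x * a * x⁻¹, hS a a.2⟩
  have hf : Function.Injective f := fun a b e =>
    Subtype.ext (mul_left_cancel (mul_right_cancel (congrArg Subtype.val e)))
  let σ : Equiv.Perm S := Equiv.ofBijective f (Finite.injective_iff_bijective.1 hf)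
  have hσ : ∀ (n : ℕ) (a : S), ((σ ^ n) a : G) = x ^ n * a * (x ^ n)⁻¹ := by
    intro n
    induction n with
    | zero => intro a; simp
    | succ n ih =>
      intro a
      rw [pow_succ', Equiv.Perm.mul_apply]
      show x * ((σ ^ n) a : G) * x⁻¹ = _
      rw [ih, pow_succ']
      group
  obtain ⟨a, ha⟩ := Equiv.Perm.exists_fixed_point_of_prime (p := r) (n := 1) (σ := σ)
    (by rwa [← Nat.card_eq_fintype_card, Nat.card_coe_set_eq]) (by
      ext a
      rw [pow_one, hσ, hx]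
      simp)
  exact ⟨a, a.2, mul_inv_eq_iff_eq_mul.1 (congrArg Subtype.val ha)⟩

/-- an element of prime order `r` fixes every member of an invariant set with less than `r` elements -/
theorem fix_small [Finite G] {r : ℕ} (hr : r.Prime) {x : G} (hx : x ^ r = 1) {S : Set G}
    (hS : ∀ a ∈ S, x * a * x⁻¹ ∈ S) (hn : S.ncard < r) {a : G} (ha : a ∈ S) : x * a = a * x := by
  by_contra hne
  have h1 : 0 < {b | b ∈ S ∧ x * b ≠ b * x}.ncard := (Set.ncard_pos (Set.toFinite _)).2 ⟨a, ha, hne⟩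
  have h2 : {b | b ∈ S ∧ x * b ≠ b * x}.ncard ≤ S.ncard := Set.ncard_le_ncard (fun _ h => h.1) (Set.toFinite _)
  obtain ⟨b, hb, hc⟩ := exists_fix hr hx (S := {b | b ∈ S ∧ x * b ≠ b * x}) (fun b hb => ⟨hS b hb.1, fun e => hb.2 (by
    calc x * b = x⁻¹ * (x * (x * b * x⁻¹)) * x := by group
      _ = b * x := by rw [e]; group)⟩) (fun hd => absurd (Nat.le_of_dvd h1 hd) (by omega))
  exact hb.2 hc

theorem two_mul_card_le [Finite G] {H K : Subgroup G} (h : H ≤ K) {x : G} (hx : x ∈ K) (hx' : x ∉ H) :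
    2 * Nat.card H ≤ Nat.card K := by
  obtain ⟨m, hm⟩ := Subgroup.card_dvd_of_le h
  have h0 : 0 < Nat.card K := Nat.card_pos
  have h1 : m ≠ 1 := by
    rintro rfl
    exact hx' (Subgroup.eq_of_le_of_card_ge h (by omega) ▸ hx)
  have h2 : m ≠ 0 := by
    rintro rfl
    omega
  rw [hm, mul_comm]
  exact Nat.mul_le_mul_left _ (by omega)

/-- a coset-like set: all quotients lie in `K` -/
theorem ncard_le_of_quot [Finite G] {X : Set G} {K : Subgroup G} (h : ∀ a ∈ X, ∀ b ∈ X, a⁻¹ * b ∈ K) :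
    X.ncard ≤ Nat.card K := by
  rcases X.eq_empty_or_nonempty with rfl | ⟨a, ha⟩
  · simp
  · rw [← SetLike.coe_sort_coe, Nat.card_coe_set_eq]
    exact ncard_le_of_inj (fun b => a⁻¹ * b) (Set.toFinite _) (fun b hb => h a ha b hb)
      fun _ _ _ _ e => mul_left_cancel e

end grp

end Cfsg.Agent.SP.Mon.Two
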