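import Cfsg.Agent.SP.Mon.Two.Cnt
import Cfsg.Agent.H68.S8.Ex
import Cfsg.Agent.LThreeMB.CoOneFin

/-! # S5755, the Monster, 2-local subgroups: class counts in `Co1`

From the list of the 101 classes of `Co1`: the numbers of the elements of order 2, 3, 6, 10, sorted by the numbers
`fr s` of the fixed classes and `kn s` of the classes killed by `1 + s + s ^ 2`. -/

set_option autoImplicit false
set_option maxRecDepth 1000000

namespace Cfsg.Agent.SP.Mon.Two

open Cfsg Cfsg.Agent.H123.Cls Cfsg.Agent.H123.Cls.CoD Cfsg.Agent.H68.CoMdl Cfsg.Agent.H68.CoGen Cfsg.Agent.H68.S8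
open Cfsg.Agent.MonsterU.Lam2
open Cfsg.Agent.LThreeMB (fr fr_conj)
open Cfsg.Spor (Co1)
open Subgroup (centralizer mem_centralizer_singleton_iff)

theorem finL2 : Finite L2 := Nat.finite_of_card_ne_zero (by rw [card_L2]; norm_num)

theorem finCo : Finite Co1 := finite_co1

/-- the order of `Co1` -/
abbrev NC : ℕ := 4157776806543360000

/-- the size of a class -/
theorem class_le {G : Type*} [Group G] [Finite G] (g : G) :
    {x | IsConj g x}.ncard * Nat.card (centralizer ({g} : Set G)) ≤ Nat.card G := by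
  have h := dc (fun t x : G => t * g * t⁻¹ = x) (X := Set.univ) (Ob := {x | IsConj g x}) (Set.toFinite _)
    (Set.toFinite _) (m := Nat.card (centralizer ({g} : Set G))) (f := 1) (fun x hx => ?_) (fun t _ => ?_)
  · rwa [mul_one, Set.ncard_univ] at h
  · obtain ⟨t, rfl⟩ := isConj_iff.1 hx
    rw [← SetLike.coe_sort_coe, Nat.card_coe_set_eq]
    refine ncard_le_of_inj (fun c => t * c) (Set.toFinite _) (fun c hc => ⟨trivial, ?_⟩)
      fun _ _ _ _ e => mul_left_cancel e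
    have h1 : c * g = g * c := mem_centralizer_singleton_iff.1 hc
    calc t * c * g * (t * c)⁻¹ = t * (c * g) * c⁻¹ * t⁻¹ := by group
      _ = t * g * t⁻¹ := by rw [h1]; group
  · exact (Set.ncard_le_one (Set.toFinite _)).2 fun a ha b hb => ha.2.symm.trans hb.2

/-- the class of an entry -/
def clE (d : Ent) : Set Co1 :=
  {g | IsConj g (wG ga gb d.x d.w) ∧ Nat.card (centralizer ({g} : Set Co1)) = d.c + 1}

theorem clE_le (d : Ent) : (clE d).ncard ≤ NC / (d.c + 1) := by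
  have := finCo
  rcases (clE d).eq_empty_or_nonempty with h | ⟨g, hg⟩
  · rw [h]; simp
  · rw [Nat.le_div_iff_mul_le (Nat.succ_pos _)]
    have h1 := class_le g
    rw [hg.2, card_co1] at h1
    refine le_trans (Nat.mul_le_mul_right _ (Set.ncard_le_ncard (fun x hx => ?_) (Set.toFinite _))) h1
    exact hg.1.trans hx.1.symm

theorem union_le : ∀ l : List Ent, {g | ∃ d ∈ l, g ∈ clE d}.ncard ≤ (l.map fun d => NC / (d.c + 1)).sum
  | [] => by simp
  | d :: l => by
    have := finCo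
    rw [List.map_cons, List.sum_cons]
    refine le_trans (ncard_cases (Y := clE d) (Z := {g | ∃ d ∈ l, g ∈ clE d}) (Set.toFinite _) (Set.toFinite _) ?_)
      (Nat.add_le_add (clE_le d) (union_le l))
    rintro g ⟨e, he, hg⟩
    rcases List.mem_cons.1 he with rfl | he
    · exact Or.inl hg
    · exact Or.inr ⟨e, he, hg⟩

/-- **Counting by classes.** -/
theorem count_cls (P : Co1 → Prop) (hP : ∀ g k, P g → P (k * g * k⁻¹)) (p : List ℕ → Bool)
    (hp : ∀ (R : List ℕ) (g : Co1), (∀ c, S1.L g c = xc R c) → P g → p R = true) {n : ℕ}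
    (hn : ((Dl.filter fun d => p d.R).map fun d => NC / (d.c + 1)).sum = n) : {g | P g}.ncard ≤ n := by
  have := finCo
  rw [← hn]
  refine le_trans (Set.ncard_le_ncard (fun g hg => ?_) (Set.toFinite _)) (union_le _)
  obtain ⟨d, hd, hc, hm, he⟩ := cls g
  obtain ⟨k, hk⟩ := isConj_iff.1 hc
  exact ⟨d, List.mem_filter.2 ⟨hd, hp _ _ hm (hk ▸ hP g k hg)⟩, hc, he⟩

/-! ### kernels -/

/-- the code of a class -/
noncomputable def cd (x : L2) : ℕ := code (Function.surjInv cl_surjective x)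

theorem code_iff {v w : leechLattice} : code v = code w ↔ cl v = cl w := by
  rw [code_eq_iff, MonsterX.Psi.psi_eq_iff, cl_eq]

theorem cd_cl (v : leechLattice) : cd (cl v) = code v := code_iff.2 (Function.surjInv_eq cl_surjective (cl v))

theorem cd_lt (x : L2) : cd x < 2 ^ 24 := code_lt _

theorem cd_inj {x y : L2} (h : cd x = cd y) : x = y := by
  obtain ⟨v, rfl⟩ := cl_surjective x
  obtain ⟨w, rfl⟩ := cl_surjective y
  rwa [cd_cl, cd_cl, code_iff] at h

theorem cd_add (x y : L2) : cd (x + y) = cd x ^^^ cd y := by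
  obtain ⟨v, rfl⟩ := cl_surjective x
  obtain ⟨w, rfl⟩ := cl_surjective y
  rw [← map_add, cd_cl, cd_cl, cd_cl, code_add]

theorem cd_zero : cd 0 = 0 := by rw [← map_zero cl, cd_cl, code_zero]

theorem cd_smul (s : Co1) (x : L2) : cd (s • x) = S1.L s (cd x) := by
  obtain ⟨v, rfl⟩ := cl_surjective x
  induction s using QuotientGroup.induction_on with
  | H g => rw [mk_smul, smul_cl, cd_cl, cd_cl, S1_L, L_code]

/-- a certificate for the size of a kernel -/
abbrev Cert : Type := List ℕ × List ℕ × List ℕ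

/-- the check of a certificate -/
def chkK (Φ : ℕ → ℕ) (k : ℕ) (c : Cert) : Bool :=
  (c.2.1.all fun x => Nat.blt x (2 ^ k)) &&
    (List.range 24).all fun i => Nat.beq (xc c.1 (Φ (2 ^ i)) ^^^ xc c.2.2 (xc c.2.1 (2 ^ i))) (2 ^ i)

theorem ker_le {Φ : ℕ → ℕ} (h0 : Φ 0 = 0) (hΦ : ∀ a b, Φ (a ^^^ b) = Φ a ^^^ Φ b) {k : ℕ} {c : Cert}
    (h : chkK Φ k c = true) {X : Set L2} (hX : ∀ x ∈ X, Φ (cd x) = 0) : X.ncard ≤ 2 ^ k := by
  unfold chkK at h
  simp only [Bool.and_eq_true, List.all_eq_true, Nat.blt_eq, Nat.beq_eq, List.mem_range] at h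
  have key : ∀ a < 2 ^ 24, xc c.1 (Φ a) ^^^ xc c.2.2 (xc c.2.1 a) = a := by
    refine xor_ind _ (by rw [h0, xc_zero, xc_zero, xc_zero]; rfl) (fun a b ha hb => ?_) 24 h.2
    rw [hΦ, xc_xor, xc_xor, xc_xor]
    conv_rhs => rw [← ha, ← hb]
    ac_rfl
  have h1 : (Set.Iio (2 ^ k)).ncard = 2 ^ k := by
    rw [← Finset.coe_Iio, Set.ncard_coe_finset, Nat.card_Iio]
  rw [← h1]
  refine ncard_le_of_inj (fun x => xc c.2.1 (cd x)) (Set.finite_Iio _) (fun x _ => Mdl.xc_lt _ h.1 _)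
    fun x hx y hy e => cd_inj ?_
  have h2 := key _ (cd_lt x)
  have h3 := key _ (cd_lt y)
  have e' : xc c.2.1 (cd x) = xc c.2.1 (cd y) := e
  rw [hX x hx, e'] at h2
  rw [hX y hy] at h3
  exact h2.symm.trans h3

/-- the number of the classes killed by `1 + s + s ^ 2` -/
noncomputable def kn (s : Co1) : ℕ := {v : L2 | v + s • v + s • s • v = 0}.ncard

theorem fr_eq (s : Co1) : fr s = {v : L2 | s • v = v}.ncard := (Nat.card_coe_set_eq {v : L2 | s • v = v})

theorem kn_conj (g s : Co1) : kn s ≤ kn (g * s * g⁻¹) := by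
  have := finL2
  refine ncard_le_of_inj (fun v => g • v) (Set.toFinite _) (fun v hv => ?_) fun _ _ _ _ e => MulAction.injective g e
  have h : v + s • v + s • s • v = 0 := hv
  show g • v + (g * s * g⁻¹) • g • v + (g * s * g⁻¹) • (g * s * g⁻¹) • g • v = 0
  simp only [mul_smul, inv_smul_smul]
  rw [← smul_add, ← smul_add, h, smul_zero]

/-- `1 + R` -/
def F1 (R : List ℕ) (c : ℕ) : ℕ := xc R c ^^^ c

/-- `1 + R + R ^ 2` -/
def F3 (R : List ℕ) (c : ℕ) : ℕ := c ^^^ xc R c ^^^ xc R (xc R c)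

theorem fr_le_of {R : List ℕ} {g : Co1} (hg : ∀ c, S1.L g c = xc R c) {k : ℕ} {l : List Cert}
    (h : l.any (chkK (F1 R) k) = true) : fr g ≤ 2 ^ k := by
  obtain ⟨c, -, hc⟩ := List.any_eq_true.1 h
  rw [fr_eq]
  refine ker_le (by unfold F1; rw [xc_zero]; rfl) (fun a b => by unfold F1; rw [xc_xor]; ac_rfl) hc fun x hx => ?_
  unfold F1
  rw [← hg, ← cd_smul, show g • x = x from hx, Nat.xor_self]

theorem kn_le_of {R : List ℕ} {g : Co1} (hg : ∀ c, S1.L g c = xc R c) {k : ℕ} {l : List Cert}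
    (h : l.any (chkK (F3 R) k) = true) : kn g ≤ 2 ^ k := by
  obtain ⟨c, -, hc⟩ := List.any_eq_true.1 h
  refine ker_le (by unfold F3; rw [xc_zero, xc_zero]; rfl) (fun a b => by unfold F3; rw [xc_xor, xc_xor]; ac_rfl) hc
    fun x hx => ?_
  unfold F3
  rw [← hg, ← hg, ← cd_smul, ← cd_smul, ← cd_add, ← cd_add, show x + g • x + g • g • x = 0 from hx, cd_zero]

/-- certificate -/
def cf0 : Cert := ⟨[0, 0, 0, 0, 0, 0, 0, 0, 0, 0, 0, 0, 3542, 3253, 763, 3364, 3975, 142, 1925, 1143, 2649, 1364,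
  2779, 1307],
  [0, 0, 0, 0, 0, 0, 0, 0, 0, 0, 0, 0, 1, 2, 4, 8, 16, 32, 64, 128, 256, 512, 1024, 2048],
  [7786, 11429, 16850, 33377, 69412, 133595, 263469, 525350, 1052276, 2097433, 4194771, 8388915]⟩

/-- certificate -/
def cf1 : Cert := ⟨[0, 0, 0, 0, 0, 0, 0, 0, 0, 0, 0, 0, 0, 0, 205, 0, 252, 0, 152, 140, 154, 90, 226, 124],
  [0, 0, 0, 0, 0, 0, 0, 0, 1, 2, 4, 8, 16, 32, 64, 128, 256, 512, 1024, 2048, 4096, 8192, 16384, 32768],
  [499, 736, 1131, 2085, 4287, 8413, 16428, 32939, 65757, 131218, 262350, 524357, 1048632, 2097261, 4194473, 8388670]⟩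

/-- certificate -/
def cf2 : Cert := ⟨[0, 0, 0, 0, 0, 0, 0, 0, 111, 0, 528936, 524434, 0, 17003, 0, 541206, 528966, 545369, 4644, 0,
  4672, 32, 528977, 17084],
  [0, 0, 0, 0, 0, 0, 0, 0, 1, 0, 2, 4, 0, 8, 0, 16, 32, 64, 128, 0, 256, 512, 1024, 2048],
  [372, 1221, 2117, 8245, 33460, 86598, 151602, 279242, 1069208, 2097181, 4718652, 8917627]⟩

/-- certificate -/
def cf3 : Cert := ⟨[10109802, 8947233, 8721603, 15740327, 12731414, 1121979, 9454793, 10500924, 433638, 4752630,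
  10584725, 5108460, 4649082, 3404337, 16371360, 9344033, 6950659, 12103823, 11556353, 16698404, 564240, 15348822,
  7859164, 10126740],
  [0, 0, 0, 0, 0, 0, 0, 0, 0, 0, 0, 0, 0, 0, 0, 0, 0, 0, 0, 0, 0, 0, 0, 0],
  []⟩

/-- certificate -/
def cf5 : Cert := ⟨[0, 0, 0, 0, 0, 0, 0, 0, 333346, 2521, 2976, 270949, 332924, 266029, 265982, 79716, 9077, 269161,
  15885, 71851, 339657, 268357, 9661, 14753],
  [0, 0, 0, 0, 0, 0, 0, 0, 0, 0, 0, 0, 0, 0, 1, 2, 0, 4, 0, 8, 16, 32, 64, 128],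
  [24730, 37138, 139071, 601835, 1322757, 2174101, 4264876, 8720677]⟩

/-- certificate -/
def cf6 : Cert := ⟨[0, 0, 0, 0, 0, 260241, 27728, 243447, 438498, 441062, 45477, 310726, 0, 127350, 279687, 455301,
  396274, 432438, 184320, 113686, 407143, 176422, 64421, 34608],
  [0, 0, 0, 1, 0, 0, 0, 0, 0, 0, 0, 0, 0, 0, 0, 0, 0, 0, 0, 2, 4, 8, 16, 32],
  [13, 833652, 1081155, 2327573, 4219729, 8396800]⟩

/-- certificate -/
def cn4 : Cert := ⟨[0, 0, 0, 0, 0, 32, 0, 0, 0, 0, 0, 1338, 0, 0, 17649, 282, 16810, 131106, 17844, 1489, 17492,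
  16481, 17522, 16523],
  [0, 0, 0, 0, 0, 0, 0, 0, 0, 1, 0, 2, 4, 8, 0, 16, 32, 0, 64, 128, 256, 512, 1024, 2048],
  [699, 2261, 4597, 9226, 34132, 82311, 279930, 524528, 1066166, 2113922, 4211927, 8406156]⟩

/-- certificate -/
def cn5 : Cert := ⟨[0, 0, 0, 0, 0, 0, 0, 0, 0, 0, 0, 0, 0, 0, 185, 134, 0, 64, 0, 41, 184, 76, 192, 112],
  [0, 0, 0, 0, 0, 0, 0, 0, 1, 2, 4, 8, 16, 32, 64, 128, 256, 512, 1024, 2048, 4096, 8192, 16384, 32768],
  [319, 697, 1110, 2175, 4185, 8364, 16527, 33010, 65685, 131209, 262272, 524395, 1048638, 2097353, 4194342, 8388646]⟩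

/-- certificate -/
def cn6 : Cert := ⟨[0, 0, 0, 13, 0, 0, 0, 0, 0, 0, 0, 0, 0, 0, 0, 0, 0, 0, 0, 19, 16, 4117, 4108, 24],
  [0, 0, 0, 0, 0, 1, 2, 4, 8, 16, 32, 64, 0, 128, 256, 512, 1024, 2048, 4096, 8192, 16384, 32768, 65536, 131072],
  [48, 88, 152, 281, 528, 1053, 2078, 8217, 20508, 36884, 65557, 131096, 262172, 524288, 1048580, 2097156, 4194313,
  8388609]⟩


/-- the test for the order `p * q` -/
def po (R : List ℕ) (n a b : ℕ) : Bool := pw R n && !(pw R a) && !(pw R b)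

theorem po_of {R : List ℕ} {g : Co1} (hg : ∀ c, S1.L g c = xc R c) {n a b : ℕ} (h : orderOf g = n) (ha : ¬ n ∣ a)
    (hb : ¬ n ∣ b) : po R n a b = true := by
  unfold po
  simp only [Bool.and_eq_true, Bool.not_eq_true', ← Bool.not_eq_true, pw_iff S1 hg, ← orderOf_dvd_iff_pow_eq_one, h]
  exact ⟨⟨dvd_rfl, ha⟩, hb⟩

theorem ord_conj {G : Type*} [Group G] (k g : G) : orderOf (k * g * k⁻¹) = orderOf g :=
  (MulAut.conj k).orderOf_eq g

theorem count_ord {n a b m : ℕ} (ha : ¬ n ∣ a) (hb : ¬ n ∣ b)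
    (hn : ((Dl.filter fun d => po d.R n a b).map fun d => NC / (d.c + 1)).sum = m) :
    {g : Co1 | orderOf g = n}.ncard ≤ m :=
  count_cls (fun g => orderOf g = n) (fun g k h => (ord_conj k g).trans h) (fun R => po R n a b)
    (fun _ _ hg h => po_of hg h ha hb) hn

theorem count_fr {n k m : ℕ} (h1 : ¬ n ∣ 1) (l : List Cert)
    (hn : ((Dl.filter fun d => po d.R n 1 1 && !(l.any (chkK (F1 d.R) k))).map fun d => NC / (d.c + 1)).sum = m) :
    {g : Co1 | orderOf g = n ∧ 2 ^ k < fr g}.ncard ≤ m :=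
  count_cls (fun g => orderOf g = n ∧ 2 ^ k < fr g) (fun g k h => ⟨(ord_conj k g).trans h.1, by rw [fr_conj]; exact h.2⟩)
    (fun R => po R n 1 1 && !(l.any (chkK (F1 R) k))) (fun R g hg h => by
      rw [Bool.and_eq_true, po_of hg h.1 h1 h1, Bool.not_eq_true', ← Bool.not_eq_true]
      exact ⟨rfl, fun h2 => absurd (fr_le_of hg h2) (not_le.2 h.2)⟩) hn

theorem count_kn {k m : ℕ} (l : List Cert)
    (hn : ((Dl.filter fun d => po d.R 3 1 1 && !(l.any (chkK (F3 d.R) k))).map fun d => NC / (d.c + 1)).sum = m) :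
    {g : Co1 | orderOf g = 3 ∧ 2 ^ k < kn g}.ncard ≤ m :=
  count_cls (fun g => orderOf g = 3 ∧ 2 ^ k < kn g) (fun g k h => ⟨(ord_conj k g).trans h.1, h.2.trans_le (kn_conj k g)⟩)
    (fun R => po R 3 1 1 && !(l.any (chkK (F3 R) k))) (fun R g hg h => by
      rw [Bool.and_eq_true, po_of hg h.1 (by norm_num) (by norm_num), Bool.not_eq_true', ← Bool.not_eq_true]
      exact ⟨rfl, fun h2 => absurd (kn_le_of hg h2) (not_le.2 h.2)⟩) hn

theorem n2 : {g : Co1 | orderOf g = 2}.ncard ≤ 12792894975 :=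
  count_ord (a := 1) (b := 1) (by norm_num) (by norm_num) (by decide +kernel)

theorem n3 : {g : Co1 | orderOf g = 3}.ncard ≤ 8039266323200 :=
  count_ord (a := 1) (b := 1) (by norm_num) (by norm_num) (by decide +kernel)

theorem n6 : {g : Co1 | orderOf g = 6}.ncard ≤ 11839105133856000 :=
  count_ord (a := 2) (b := 3) (by norm_num) (by norm_num) (by decide +kernel)

theorem n10 : {g : Co1 | orderOf g = 10}.ncard ≤ 47208090824294400 :=
  count_ord (a := 2) (b := 5) (by norm_num) (by norm_num) (by decide +kernel)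

theorem n2a : {g : Co1 | orderOf g = 2 ∧ 2 ^ 12 < fr g}.ncard ≤ 46621575 :=
  count_fr (by norm_num) [cf0, cf2] (by decide +kernel)

theorem fr_two {g : Co1} (hg : orderOf g = 2) : fr g ≤ 2 ^ 16 := by
  have := finCo
  have h : {g : Co1 | orderOf g = 2 ∧ 2 ^ 16 < fr g}.ncard ≤ 0 :=
    count_fr (by norm_num) [cf0, cf1, cf2] (by decide +kernel)
  by_contra hc
  have h1 := (Set.ncard_pos (Set.toFinite _)).2
    (⟨g, hg, not_le.1 hc⟩ : {g : Co1 | orderOf g = 2 ∧ 2 ^ 16 < fr g}.Nonempty)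
  omega

theorem n12 : {g : Co1 | orderOf g = 3 ∧ 2 ^ 8 < fr g}.ncard ≤ 70726656000 :=
  count_fr (by norm_num) [cf3, cf5, cf6] (by decide +kernel)

theorem nk18 : {g : Co1 | orderOf g = 3 ∧ 2 ^ 18 < kn g}.ncard ≤ 3091200 :=
  count_kn [cn4, cn5, cn6] (by decide +kernel)

theorem nk16 : {g : Co1 | orderOf g = 3 ∧ 2 ^ 16 < kn g}.ncard ≤ 330060819200 :=
  count_kn [cn4, cn5] (by decide +kernel)

theorem kn_mul {s : Co1} : kn s * fr s ≤ 2 ^ 24 := by
  have := finL2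
  rw [fr_eq, kn, ← Set.ncard_prod, ← card_L2, ← Set.ncard_univ]
  refine ncard_le_of_inj (fun p => p.1 + p.2) (Set.toFinite _) (fun _ _ => trivial) ?_
  rintro ⟨a, b⟩ ⟨ha, hb⟩ ⟨a', b'⟩ ⟨ha', hb'⟩ e
  have N : ∀ a b : L2, a + s • a + s • s • a = 0 → s • b = b →
      (a + b) + s • (a + b) + s • s • (a + b) = b := by
    intro a b ha hb
    rw [smul_add, smul_add, hb, hb]
    calc a + b + (s • a + b) + (s • s • a + b) = (a + s • a + s • s • a) + (b + b) + b := by abel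
      _ = b := by rw [ha, add_self, zero_add, zero_add]
  have e' : a + b = a' + b' := e
  have h1 : b = b' := by rw [← N a b ha hb, e', N a' b' ha' hb']
  rw [h1] at e'
  rw [add_right_cancel e', h1]

theorem kn_le (s : Co1) : kn s ≤ 2 ^ 24 := by
  have := finL2
  rw [← card_L2, ← Set.ncard_univ]
  exact Set.ncard_le_ncard (Set.subset_univ _) (Set.toFinite _)

theorem fr_three {s : Co1} (hs : orderOf s = 3) : fr s ≤ 2 ^ 12 := by
  rcases LThreeMB.CoOneFin.coOne.ranks s hs with h | h | h | h <;> rw [h] <;> norm_num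

theorem kn_of_fix {s : Co1} (hs : orderOf s = 3) {v : L2} (h0 : v ≠ 0) (hv : s • v = v) : kn s ≤ 2 ^ 18 := by
  have := finL2
  have h1 : 1 < fr s := by
    rw [fr_eq]
    exact (Set.one_lt_ncard (Set.toFinite _)).2 ⟨v, hv, 0, smul_zero s, h0⟩
  have h2 := kn_mul (s := s)
  rcases LThreeMB.CoOneFin.coOne.ranks s hs with h | h | h | h <;> rw [h] at h1 h2 <;> omega

theorem kn_twelve {s : Co1} (h : fr s = 2 ^ 12) : kn s ≤ 2 ^ 12 := by
  have h2 := kn_mul (s := s)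
  rw [h] at h2
  omega

end Cfsg.Agent.SP.Mon.Two
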