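import Cfsg.Agent.SP.Mon.Two.Sext
import Cfsg.Agent.H848.NormFour
import Cfsg.Agent.H848.TenC

/-! # S5755, the Monster, 2-local subgroups: counts in the centraliser of `z`

Lifts of the elements of `Co1`; the numbers of the elements of order 2, 3, 5 in the stabilisers of a frame. -/

set_option autoImplicit false
set_option linter.unusedSectionVars false

namespace Cfsg.Agent.SP.Mon.Two

open Cfsg
open Cfsg.Agent.MonsterU.Lam2
open Cfsg.Agent.MonsterU.CoFrameL2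
open Cfsg.Agent.MonsterU.Ch
open Cfsg.Agent.MonsterU.AmalGen (pre mem_pre EE)
open Cfsg.Agent.R2.H4.Mon.Frm Cfsg.Agent.R2.H4.Mon.GeoInst
open Cfsg.Agent.H848.Oct (eps CO mem_CO)
open Cfsg.Agent.H848.TenB (T)
open Cfsg.Agent.LThreeMB (fr fr_conj)
open Cfsg.Spor (Co1)
open Subgroup (centralizer mem_centralizer_singleton_iff)

variable {G : Type*} [Group G] [Finite G] {Q : Subgroup G} {z : G} {eta : G → L2}
  {pi : centralizer ({z} : Set G) →* Co1} {y τ : G}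

open Classical in
/-- the map to `Co1` as a function on the group -/
noncomputable def pp (pi : centralizer ({z} : Set G) →* Co1) (x : G) : Co1 :=
  if h : x ∈ centralizer ({z} : Set G) then pi ⟨x, h⟩ else 1

theorem pp_eq {x : G} (hx : x * z = z * x) : pp pi x = pi ⟨x, mem_centralizer_singleton_iff.2 hx⟩ :=
  dif_pos (mem_centralizer_singleton_iff.2 hx)

theorem pp_coe (c : centralizer ({z} : Set G)) : pp pi c = pi c := dif_pos c.2

theorem comm_inv {x : G} (hx : x * z = z * x) : x⁻¹ * z = z * x⁻¹ := (show Commute x z from hx).inv_left.eq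

theorem comm_mul {x w : G} (hx : x * z = z * x) (hw : w * z = z * w) : x * w * z = z * (x * w) :=
  ((show Commute x z from hx).mul_left hw).eq

theorem pp_mul {x w : G} (hx : x * z = z * x) (hw : w * z = z * w) : pp pi (x * w) = pp pi x * pp pi w := by
  rw [pp_eq hx, pp_eq hw, pp_eq (comm_mul hx hw), ← map_mul]; rfl

theorem pp_inv {x : G} (hx : x * z = z * x) : pp pi x⁻¹ = (pp pi x)⁻¹ := by
  rw [pp_eq hx, pp_eq (comm_inv hx), ← map_inv]; rfl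

theorem pp_pow {x : G} (hx : x * z = z * x) (n : ℕ) : pp pi (x ^ n) = pp pi x ^ n := by
  rw [pp_eq hx, pp_eq ((show Commute x z from hx).pow_left n).eq, ← map_pow]; rfl

section chart

variable (h : Chart Q z eta pi)
include h

theorem eta_pp {x q : G} (hx : x * z = z * x) (hq : q ∈ Q) : eta (x * q * x⁻¹) = pp pi x • eta q := by
  rw [pp_eq hx]; exact h.eta_conj ⟨x, _⟩ q hq

theorem pp_one {x : G} (hx : x * z = z * x) : pp pi x = 1 ↔ x ∈ Q := by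
  rw [pp_eq hx]; exact h.pi_eq_one _

theorem pp_quot {x w : G} (hx : x * z = z * x) (hw : w * z = z * w) (e : pp pi x = pp pi w) : x⁻¹ * w ∈ Q := by
  rw [← pp_one h (comm_mul (comm_inv hx) hw), pp_mul (comm_inv hx) hw, pp_inv hx, e, inv_mul_cancel]

theorem pp_surj (s : Co1) : ∃ c : G, c * z = z * c ∧ pp pi c = s := by
  obtain ⟨c, hc⟩ := h.pi_surj s
  exact ⟨c, mem_centralizer_singleton_iff.1 c.2, (pp_coe c).trans hc⟩

theorem ord_pp {r : ℕ} (hr : r.Prime) (h2 : r ≠ 2) {x : G} (hx : x * z = z * x) (ho : orderOf x = r) :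
    orderOf (pp pi x) = r := by
  have := Fact.mk hr
  refine orderOf_eq_prime (by rw [← pp_pow hx, ← ho, pow_orderOf_eq_one, pp_one h (by simp)]; exact Q.one_mem)
    fun h1 => h2 ?_
  have h3 := Subgroup.orderOf_dvd_natCard Q ((pp_one h hx).1 h1)
  rw [ho, h.card_Q] at h3
  exact (Nat.prime_dvd_prime_iff_eq hr Nat.prime_two).1 (hr.dvd_of_dvd_pow h3)

theorem lift0 (s : Co1) {X : Set G} (hX : ∀ x ∈ X, x * z = z * x ∧ pp pi x = s) : X.ncard ≤ 2 ^ 25 := by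
  rw [← h.card_Q]
  exact ncard_le_of_quot fun a ha b hb => pp_quot h (hX a ha).1 (hX b hb).1 ((hX a ha).2.trans (hX b hb).2.symm)

theorem lift2 (s : Co1) {X : Set G} (hX : ∀ x ∈ X, x * z = z * x ∧ x * x = 1 ∧ pp pi x = s) : X.ncard ≤ 2 * fr s := by
  have e : Nat.card (pre h (Fx s)) = 2 * fr s := H848.NormFour.card_pre h _
  rw [← e]
  refine ncard_le_of_quot fun a ha b hb => ?_
  obtain ⟨a1, a2, a3⟩ := hX a ha
  obtain ⟨b1, b2, b3⟩ := hX b hb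
  have hq := pp_quot h a1 b1 (a3.trans b3.symm)
  refine ⟨hq, ?_⟩
  show s • eta (a⁻¹ * b) = eta (a⁻¹ * b)
  rw [← a3, ← eta_pp h a1 hq, ← h.eta_inv hq]
  congr 1
  rw [mul_inv_rev, inv_inv, inv_eq_of_mul_eq_one_left b2, mul_inv_cancel_left, inv_eq_of_mul_eq_one_left a2]

theorem lift3 (s : Co1) {X : Set G} (hX : ∀ x ∈ X, x * z = z * x ∧ x ^ 3 = 1 ∧ pp pi x = s) : X.ncard ≤ kn s := by
  have := finL2
  rcases X.eq_empty_or_nonempty with rfl | ⟨a, ha⟩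
  · simp
  obtain ⟨a1, a2, a3⟩ := hX a ha
  have hQ : ∀ b ∈ X, b * a⁻¹ ∈ Q := fun b hb => by
    have h1 := h.large.conj_mem a a1 _ (pp_quot h a1 (hX b hb).1 (a3.trans (hX b hb).2.2.symm))
    rwa [mul_inv_cancel_left] at h1
  refine ncard_le_of_inj (fun b => eta (b * a⁻¹)) (Set.toFinite _) (fun b hb => ?_) fun b hb c hc e => ?_
  · have h1 := hQ b hb
    have h2 := h.large.conj_mem a a1 _ h1
    have h3 := h.large.conj_mem a a1 _ h2
    show eta (b * a⁻¹) + s • eta (b * a⁻¹) + s • s • eta (b * a⁻¹) = 0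
    rw [← a3, ← eta_pp h a1 h1, ← eta_pp h a1 h2, ← h.eta_mul _ h1 _ h2, ← h.eta_mul _ (Q.mul_mem h1 h2) _ h3,
      ← h.eta_one]
    congr 1
    calc b * a⁻¹ * (a * (b * a⁻¹) * a⁻¹) * (a * (a * (b * a⁻¹) * a⁻¹) * a⁻¹) = b ^ 3 * (a ^ 3)⁻¹ := by
          simp only [pow_succ, pow_zero]; group
      _ = 1 := by rw [(hX b hb).2.1, a2]; simp
  · rcases (h.eta_eq (hQ b hb) (hQ c hc)).1 e with h1 | h1
    · exact mul_right_cancel h1
    · exfalso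
      have h2 : b = c * z := by
        calc b = b * a⁻¹ * a := by group
          _ = c * (a⁻¹ * z) * a := by rw [h1]; group
          _ = c * z := by rw [comm_inv a1]; group
      have h3 := (hX b hb).2.1
      rw [h2, (show Commute c z from (hX c hc).1).mul_pow, (hX c hc).2.1, one_mul, pow_succ, pow_two, h.large.z_sq,
        one_mul] at h3
      exact h.large.z_ne h3

theorem lift_two {X : Set G} {P : Set Co1} {m f : ℕ} (hX : ∀ x ∈ X, x * z = z * x ∧ x * x = 1 ∧ pp pi x ∈ P)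
    (hm : P.ncard ≤ m) (hf : ∀ s ∈ P, fr s ≤ f) : X.ncard ≤ m * (2 * f) := by
  have := finCo
  refine (fib_le (pp pi) (Set.toFinite _) (Set.toFinite _) (fun x hx => (hX x hx).2.2) fun s hs => ?_).trans
    (Nat.mul_le_mul_right _ hm)
  exact (lift2 h s fun x hx => ⟨(hX x hx.1).1, (hX x hx.1).2.1, hx.2⟩).trans (Nat.mul_le_mul_left _ (hf s hs))

theorem lift_three {X : Set G} {P : Set Co1} {m f : ℕ} (hX : ∀ x ∈ X, x * z = z * x ∧ orderOf x = 3 ∧ pp pi x ∈ P)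
    (hm : P.ncard ≤ m) (hf : ∀ s ∈ P, kn s ≤ f) : X.ncard ≤ m * f := by
  have := finCo
  refine (fib_le (pp pi) (Set.toFinite _) (Set.toFinite _) (fun x hx => (hX x hx).2.2) fun s hs => ?_).trans
    (Nat.mul_le_mul_right _ hm)
  exact (lift3 h s fun x hx => ⟨(hX x hx.1).1, by rw [← (hX x hx.1).2.1, pow_orderOf_eq_one], hx.2⟩).trans (hf s hs)

theorem lift_all {X : Set G} {P : Set Co1} {m : ℕ} (hX : ∀ x ∈ X, x * z = z * x ∧ pp pi x ∈ P)
    (hm : P.ncard ≤ m) : X.ncard ≤ m * 2 ^ 25 := by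
  have := finCo
  refine (fib_le (pp pi) (Set.toFinite _) (Set.toFinite _) (fun x hx => (hX x hx).2) fun s _ => ?_).trans
    (Nat.mul_le_mul_right _ hm)
  exact lift0 h s fun x hx => ⟨(hX x hx.1).1, hx.2⟩

theorem ord_pp_two {x : G} (hx : x * z = z * x) (h2 : x * x = 1) (hQ : x ∉ Q) : orderOf (pp pi x) = 2 := by
  have : Fact (Nat.Prime 2) := ⟨Nat.prime_two⟩
  refine orderOf_eq_prime ?_ fun h1 => hQ ((pp_one h hx).1 h1)
  rw [← pp_pow hx, pow_two, h2, pp_one h (by simp)]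
  exact Q.one_mem

end chart

section frame

variable (F : Fr Q z eta pi y τ)
include F

theorem pp_f0 {x : G} (hx : x * z = z * x) (hy : x * y * x⁻¹ = y ∨ x * y * x⁻¹ = z * y) : pp pi x • f0 = f0 := by
  rw [← F.hy, ← eta_pp F.ch hx F.hyQ]
  rcases hy with h | h <;> rw [h]
  rw [F.ch.eta_mul _ F.ch.large.z_mem _ F.hyQ, F.ch.eta_z, zero_add]

/-- **The involutions fixing a flag.** -/
theorem inv_std : {x : G | x * x = 1 ∧ x * z = z * x ∧ (x * y * x⁻¹ = y ∨ x * y * x⁻¹ = z * y)}.ncard ≤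
    100093370368 := by
  refine le_trans (ncard_cases (Y := (Q : Set G))
    (Z := {x : G | (x * x = 1 ∧ x * z = z * x ∧ (x * y * x⁻¹ = y ∨ x * y * x⁻¹ = z * y)) ∧ x ∉ Q})
    (Set.toFinite _) (Set.toFinite _) fun x hx => (em _).imp id fun h => ⟨hx, h⟩) ?_
  have h1 : (Q : Set G).ncard = 2 ^ 25 := F.ch.card_Q
  have h2 := ncard_cases
    (X := {x : G | (x * x = 1 ∧ x * z = z * x ∧ (x * y * x⁻¹ = y ∨ x * y * x⁻¹ = z * y)) ∧ x ∉ Q})
    (Y := {x : G | ((x * x = 1 ∧ x * z = z * x ∧ (x * y * x⁻¹ = y ∨ x * y * x⁻¹ = z * y)) ∧ x ∉ Q) ∧ 2 ^ 12 < fr (pp pi x)})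
    (Z := {x : G | ((x * x = 1 ∧ x * z = z * x ∧ (x * y * x⁻¹ = y ∨ x * y * x⁻¹ = z * y)) ∧ x ∉ Q) ∧ fr (pp pi x) ≤ 2 ^ 12})
    (Set.toFinite _) (Set.toFinite _) fun x hx => (lt_or_ge _ _).imp (fun h => ⟨hx, h⟩) fun h => ⟨hx, h⟩
  have h3 := lift_two F.ch
    (X := {x : G | ((x * x = 1 ∧ x * z = z * x ∧ (x * y * x⁻¹ = y ∨ x * y * x⁻¹ = z * y)) ∧ x ∉ Q) ∧ 2 ^ 12 < fr (pp pi x)})
    (fun x hx => ⟨hx.1.1.2.1, hx.1.1.1, And.intro (And.intro (ord_pp_two F.ch hx.1.1.2.1 hx.1.1.1 hx.1.2) hx.2)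
      (pp_f0 F hx.1.1.2.1 hx.1.1.2.2)⟩) m2a (fun s hs => fr_two hs.1.1)
  have h4 := lift_two F.ch
    (X := {x : G | ((x * x = 1 ∧ x * z = z * x ∧ (x * y * x⁻¹ = y ∨ x * y * x⁻¹ = z * y)) ∧ x ∉ Q) ∧ fr (pp pi x) ≤ 2 ^ 12})
    (fun x hx => ⟨hx.1.1.2.1, hx.1.1.1, And.intro (And.intro (ord_pp_two F.ch hx.1.1.2.1 hx.1.1.1 hx.1.2) hx.2)
      (pp_f0 F hx.1.1.2.1 hx.1.1.2.2)⟩) m2 (fun s hs => hs.1.2)
  omega

/-- an invariant set of involutions of `C(z)` -/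
theorem inv_class {A : G → Prop} (hA : ∀ x g, A x → A (g * x * g⁻¹)) (h2 : ∀ x, A x → x * x = 1) {n m : ℕ}
    (hn : {x | A x ∧ x * z = z * x}.ncard ≤ n) (hm : n * 2 ^ 16 < 8292375 * (m + 1)) :
    {x | A x ∧ x * z = z * x ∧ x * y = y * x}.ncard ≤ 2 ^ 25 + m := by
  have := finL2
  have h1 : (Q : Set G).ncard = 2 ^ 25 := F.ch.card_Q
  have h3 := dcG (fun (x : G) (v : L2) => pp pi x • v = v) (X := {x | (A x ∧ x * z = z * x) ∧ x ∉ Q})
    (Ob := {x : L2 | IsType 4 x}) (Set.toFinite _) f0 (f := 2 ^ 16) (fun v hv => ?_) (fun x hx => ?_)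
  · rw [ConwayFacts.NormL2.ncard_four] at h3
    have h4 := (h3.trans (Nat.mul_le_mul_right _ (le_trans (Set.ncard_le_ncard (fun _ h => h.1) (Set.toFinite _))
      hn))).trans_lt hm
    have h5 := Nat.lt_succ_iff.1 (Nat.lt_of_mul_lt_mul_left h4)
    refine le_trans (ncard_cases (Y := (Q : Set G)) (Set.toFinite _) (Set.toFinite _) fun x hx => ?_)
      (Nat.add_le_add h1.le h5)
    exact (em _).imp id fun h => ⟨⟨⟨hx.1, hx.2.1⟩, h⟩, pp_f0 F hx.2.1 (Or.inl (mul_inv_eq_iff_eq_mul.2 hx.2.2))⟩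
  · obtain ⟨g, rfl⟩ := exists_four hv
    obtain ⟨c, hc, rfl⟩ := pp_surj F.ch g
    refine ⟨c, fun x hx e => ⟨⟨⟨hA x c hx.1.1, comm_mul (comm_mul hc hx.1.2) (comm_inv hc)⟩, fun h => hx.2 ?_⟩, ?_⟩⟩
    · have := F.ch.large.conj_mem _ (comm_inv hc) _ h
      simpa [mul_assoc] using this
    · rw [pp_mul (comm_mul hc hx.1.2) (comm_inv hc), pp_mul hc hx.1.2, pp_inv hc, mul_smul, inv_smul_smul, mul_smul, e]
  · refine le_trans ?_ (fr_two (ord_pp_two F.ch hx.1.2 (h2 x hx.1.1) hx.2))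
    rw [fr_eq]
    exact Set.ncard_le_ncard (fun _ h => h.2) (Set.toFinite _)

/-- **The elements of order 3 centralising a line.** -/
theorem three_std : {x : G | orderOf x = 3 ∧ x * z = z * x ∧ x * y = y * x}.ncard ≤ 3970977537 * 2 ^ 18 :=
  lift_three F.ch (fun x hx => ⟨hx.2.1, hx.1, And.intro (ord_pp F.ch Nat.prime_three (by norm_num) hx.2.1 hx.1)
    (pp_f0 F hx.2.1 (Or.inl (mul_inv_eq_iff_eq_mul.2 hx.2.2)))⟩) m3 fun _ hs => kn_of_fix hs.1 f0_ne hs.2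

theorem three_stdA {B : G → Prop} (hB : ∀ x, x * z = z * x → orderOf x = 3 → B x → fr (pp pi x) = 2 ^ 12) :
    {x : G | (orderOf x = 3 ∧ B x) ∧ x * z = z * x ∧ x * y = y * x}.ncard ≤ 34935273 * 2 ^ 12 :=
  lift_three F.ch (fun x hx => ⟨hx.2.1, hx.1.1, And.intro (And.intro
    (ord_pp F.ch Nat.prime_three (by norm_num) hx.2.1 hx.1.1) (hB x hx.2.1 hx.1.1 hx.1.2))
    (pp_f0 F hx.2.1 (Or.inl (mul_inv_eq_iff_eq_mul.2 hx.2.2)))⟩) m12 fun _ hs => kn_twelve hs.1.2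

theorem pp_R2 {w x : G} (hw : w ∈ Q) (hx : x * z = z * x) (h1 : x * y * x⁻¹ = w) (h2 : y * w * (x * w * x⁻¹) = 1) :
    R2 (pp pi x) (f0, eta w) := by
  have h3 : pp pi x • f0 = eta w := by rw [← F.hy, ← eta_pp F.ch hx F.hyQ, h1]
  refine ⟨h3, ?_⟩
  show f0 + pp pi x • f0 + pp pi x • pp pi x • f0 = 0
  rw [h3, ← eta_pp F.ch hx hw, ← F.hy, ← F.ch.eta_mul _ F.hyQ _ hw,
    ← F.ch.eta_mul _ (Q.mul_mem F.hyQ hw) _ (F.ch.large.conj_mem _ hx _ hw), h2, F.ch.eta_one]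

/-- **The elements of order 3 rotating a line.** -/
theorem rot_std {w : G} (hw : w ∈ Q) (h4 : eta w ∈ S4) :
    {x : G | orderOf x = 3 ∧ x * z = z * x ∧ x * y * x⁻¹ = w ∧ y * w * (x * w * x⁻¹) = 1}.ncard ≤ 1977411895296 := by
  set X := {x : G | orderOf x = 3 ∧ x * z = z * x ∧ x * y * x⁻¹ = w ∧ y * w * (x * w * x⁻¹) = 1}
  have ho : ∀ x ∈ X, orderOf (pp pi x) = 3 := fun x hx => ord_pp F.ch Nat.prime_three (by norm_num) hx.2.1 hx.1
  have hr : ∀ x ∈ X, R2 (pp pi x) (f0, eta w) := fun x hx => pp_R2 F hw hx.2.1 hx.2.2.1 hx.2.2.2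
  have h1 := ncard_cases (X := X) (Y := {x | x ∈ X ∧ 2 ^ 18 < kn (pp pi x)}) (Z := {x | x ∈ X ∧ kn (pp pi x) ≤ 2 ^ 18})
    (Set.toFinite _) (Set.toFinite _) fun x hx => (lt_or_ge _ _).imp (fun h => ⟨hx, h⟩) fun h => ⟨hx, h⟩
  have h2 := ncard_cases (X := {x | x ∈ X ∧ kn (pp pi x) ≤ 2 ^ 18})
    (Y := {x | x ∈ X ∧ 2 ^ 16 < kn (pp pi x) ∧ kn (pp pi x) ≤ 2 ^ 18}) (Z := {x | x ∈ X ∧ kn (pp pi x) ≤ 2 ^ 16})
    (Set.toFinite _) (Set.toFinite _) fun x hx => (lt_or_ge _ _).imp (fun h => ⟨hx.1, h, hx.2⟩) fun h => ⟨hx.1, h⟩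
  have h3 := lift_three F.ch (X := {x | x ∈ X ∧ 2 ^ 18 < kn (pp pi x)})
    (fun x hx => ⟨hx.1.2.1, hx.1.1, And.intro (And.intro (ho x hx.1) hx.2) (hr x hx.1)⟩) (pk18 h4) fun s _ => kn_le s
  have h5 := lift_three F.ch (X := {x | x ∈ X ∧ 2 ^ 16 < kn (pp pi x) ∧ kn (pp pi x) ≤ 2 ^ 18})
    (fun x hx => ⟨hx.1.2.1, hx.1.1, And.intro (And.intro (ho x hx.1) hx.2) (hr x hx.1)⟩) (pk16 h4) fun s hs => hs.1.2.2
  have h6 := lift_three F.ch (X := {x | x ∈ X ∧ kn (pp pi x) ≤ 2 ^ 16})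
    (fun x hx => ⟨hx.1.2.1, hx.1.1, And.intro (And.intro (ho x hx.1) hx.2) (hr x hx.1)⟩) (pk h4) fun s hs => hs.1.2
  omega

theorem rot_stdA {B : G → Prop} (hB : ∀ x, x * z = z * x → orderOf x = 3 → B x → fr (pp pi x) = 2 ^ 12)
    {w : G} (hw : w ∈ Q) (h4 : eta w ∈ S4) :
    {x : G | (orderOf x = 3 ∧ B x) ∧ x * z = z * x ∧ x * y * x⁻¹ = w ∧ y * w * (x * w * x⁻¹) = 1}.ncard ≤
      9863 * 2 ^ 12 :=
  lift_three F.ch (fun x hx => ⟨hx.2.1, hx.1.1, And.intro (And.intro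
    (ord_pp F.ch Nat.prime_three (by norm_num) hx.2.1 hx.1.1) (hB x hx.2.1 hx.1.1 hx.1.2))
    (pp_R2 F hw hx.2.1 hx.2.2.1 hx.2.2.2)⟩) (p12 h4) fun _ hs => kn_twelve hs.1.2

/-- **The centraliser of a line.** -/
theorem cent_line : {x : G | x * z = z * x ∧ x * y = y * x}.ncard ≤ 501397585920 * 2 ^ 25 :=
  lift_all F.ch (P := (MonsterU.CoFrameL2.F : Set Co1))
    (fun x hx => ⟨hx.1, (mem_F_iff _).2 (pp_f0 F hx.1 (Or.inl (mul_inv_eq_iff_eq_mul.2 hx.2)))⟩)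
    (le_of_eq MonsterU.CoFrameF.card_F)

/-- **The centraliser of a plane.** -/
theorem cent_plane {w : G} (hw : w ∈ Q) (h4 : eta w ∈ S4) :
    Nat.card (centralizer ({z, y, w} : Set G)) ≤ 141557760 * 2 ^ 23 := by
  let K0 : Subgroup G := ((MulAction.stabilizer Co1 (f0, eta w)).comap pi).map (centralizer ({z} : Set G)).subtype
  have hK0 : ∀ x, x ∈ K0 ↔ x * z = z * x ∧ pp pi x • f0 = f0 ∧ pp pi x • eta w = eta w := by
    intro x
    constructor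
    · rintro ⟨c, hc, rfl⟩
      have h1 : pi c • (f0, eta w) = (f0, eta w) := hc
      refine ⟨mem_centralizer_singleton_iff.1 c.2, ?_⟩
      rw [Subgroup.coe_subtype, pp_coe]
      exact Prod.mk.inj h1
    · rintro ⟨h1, h2, h3⟩
      rw [pp_eq h1] at h2 h3
      exact ⟨⟨x, mem_centralizer_singleton_iff.2 h1⟩, show _ • (f0, eta w) = (f0, eta w) from Prod.ext h2 h3, rfl⟩
  have hQ : ∀ q ∈ Q, q ∈ K0 := fun q hq => by
    have h1 := F.ch.large.comm_z q hq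
    rw [hK0, (pp_one F.ch h1).2 hq, one_smul, one_smul]
    exact ⟨h1, rfl, rfl⟩
  have c0 : Nat.card K0 ≤ 141557760 * 2 ^ 25 :=
    lift_all F.ch (X := (K0 : Set G)) (P := (MulAction.stabilizer Co1 (f0, eta w) : Set Co1))
      (fun x hx => ⟨((hK0 x).1 hx).1, Prod.ext ((hK0 x).1 hx).2.1 ((hK0 x).1 hx).2.2⟩) (card_stab2 h4)
  have nd : ∀ v : L2, v ≠ 0 → ∃ u, bf u v = 1 := fun v hv => by
    by_contra hn
    push Not at hn
    exact hv (bf_nondeg fun u => by rw [bf_comm]; exact (H848.TrioU.zero_or_one _).resolve_right (hn u))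
  obtain ⟨u, hu⟩ := nd f0 f0_ne
  obtain ⟨u', hu1, hu2⟩ : ∃ u', bf u' f0 = 0 ∧ bf u' (eta w) = 1 := by
    obtain ⟨a, ha⟩ := nd (eta w) fun e => h4.2.1 (e ▸ W1.zero_mem)
    obtain ⟨b, hb⟩ := nd (eta w + f0) fun e => h4.2.1 (by rw [eq_of_add_eq_zero e]; exact f0_mem_W1)
    rw [bf_add_right] at hb
    rcases H848.TrioU.zero_or_one (bf a f0) with h1 | h1
    · exact ⟨a, h1, ha⟩
    rcases H848.TrioU.zero_or_one (bf b f0) with h2 | h2
    · exact ⟨b, h2, by rwa [h2, add_zero] at hb⟩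
    · refine ⟨a + b, by rw [bf_add_left, h1, h2]; rfl, ?_⟩
      rw [h2, add_eq_right] at hb
      rw [bf_add_left, ha, hb, add_zero]
  obtain ⟨q, hq, rfl⟩ := F.ch.eta_surj u
  obtain ⟨q', hq', rfl⟩ := F.ch.eta_surj u'
  have c1 : 2 * Nat.card (K0 ⊓ centralizer ({y} : Set G) : Subgroup G) ≤ Nat.card K0 :=
    two_mul_card_le inf_le_left (hQ q hq) fun h => by
      have h1 := (F.ch.comm_iff hq F.hyQ).1 (mem_centralizer_singleton_iff.1 h.2)
      rw [F.hy, hu] at h1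
      exact one_ne_zero h1
  have c2 : 2 * Nat.card (centralizer ({z, y, w} : Set G)) ≤ Nat.card (K0 ⊓ centralizer ({y} : Set G) : Subgroup G) := by
    refine two_mul_card_le (x := q') (fun x hx => ?_) ⟨hQ q' hq', mem_centralizer_singleton_iff.2
      ((F.ch.comm_iff hq' F.hyQ).2 (by rw [F.hy]; exact hu1))⟩ fun h => ?_
    · rw [Subgroup.mem_centralizer_iff] at hx
      have h1 := (hx z (by simp)).symm
      have h2 := (hx y (by simp)).symm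
      have h3 := (hx w (by simp)).symm
      refine ⟨(hK0 x).2 ⟨h1, pp_f0 F h1 (Or.inl (mul_inv_eq_iff_eq_mul.2 h2)), ?_⟩, mem_centralizer_singleton_iff.2 h2⟩
      rw [← eta_pp F.ch h1 hw, h3, mul_inv_cancel_right]
    · have h1 := (F.ch.comm_iff hq' hw).1 (Subgroup.mem_centralizer_iff.1 h w (by simp)).symm
      rw [hu2] at h1
      exact one_ne_zero h1
  omega

/-! ### the ark -/

variable {o : golayCode} (Fo : H848.TenA.Facts o) (hE : TE F.ch τ)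
include Fo hE

theorem pp_CO {x : G} (hx : x * z = z * x) (hN : x ∈ Subgroup.normalizer (T F.ch o : Set G)) : pp pi x ∈ CO o := by
  rw [pp_eq hx]
  exact (H848.TenC.mem_N_iff F.ch Fo F.hyQ F.hy F.τz F.τy hE _).1 hN

theorem ark_all : {x : G | x * z = z * x ∧ x ∈ Subgroup.normalizer (T F.ch o : Set G)}.ncard ≤ 89181388800 * 2 ^ 25 :=
  lift_all F.ch (P := (CO o : Set Co1)) (fun x hx => ⟨hx.1, pp_CO F Fo hE hx.1 hx.2⟩) (Fo.card.trans (by norm_num))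

theorem ark_five : {x : G | orderOf x = 5 ∧ x * z = z * x ∧ x ∈ Subgroup.normalizer (T F.ch o : Set G)}.ncard ≤
    1012580352 * 2 ^ 25 :=
  lift_all F.ch (fun x hx => ⟨hx.2.1, And.intro (ord_pp F.ch Nat.prime_five (by norm_num) hx.2.1 hx.1)
    (pp_CO F Fo hE hx.2.1 hx.2.2)⟩) (co5 Fo)

theorem ark_three : {x : G | orderOf x = 3 ∧ x * z = z * x ∧ x ∈ Subgroup.normalizer (T F.ch o : Set G)}.ncard ≤
    3091200 * 2 ^ 24 + 253940480 * 2 ^ 18 := by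
  set X := {x : G | orderOf x = 3 ∧ x * z = z * x ∧ x ∈ Subgroup.normalizer (T F.ch o : Set G)}
  have ho : ∀ x ∈ X, orderOf (pp pi x) = 3 := fun x hx => ord_pp F.ch Nat.prime_three (by norm_num) hx.2.1 hx.1
  have := finCo
  refine le_trans (ncard_cases (X := X) (Y := {x | x ∈ X ∧ 2 ^ 18 < kn (pp pi x)})
    (Z := {x | x ∈ X ∧ kn (pp pi x) ≤ 2 ^ 18})
    (Set.toFinite _) (Set.toFinite _) fun x hx => (lt_or_ge _ _).imp (fun h => ⟨hx, h⟩) fun h => ⟨hx, h⟩)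
    (Nat.add_le_add ?_ ?_)
  · exact lift_three F.ch (fun x hx => ⟨hx.1.2.1, hx.1.1, And.intro (ho x hx.1) hx.2⟩) nk18 fun s _ => kn_le s
  · exact lift_three F.ch (P := {s | (orderOf s = 3 ∧ s ∈ CO o) ∧ kn s ≤ 2 ^ 18})
      (fun x hx => ⟨hx.1.2.1, hx.1.1, ⟨ho x hx.1, pp_CO F Fo hE hx.1.2.1 hx.1.2.2⟩, hx.2⟩)
      (le_trans (Set.ncard_le_ncard (fun _ h => h.1) (Set.toFinite _)) (co3 Fo)) fun s hs => hs.2

theorem ark_threeA {B : G → Prop} (hB : ∀ x, x * z = z * x → orderOf x = 3 → B x → fr (pp pi x) = 2 ^ 12) :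
    {x : G | (orderOf x = 3 ∧ B x) ∧ x * z = z * x ∧ x ∈ Subgroup.normalizer (T F.ch o : Set G)}.ncard ≤
      253940480 * 2 ^ 12 := by
  have := finCo
  exact lift_three F.ch (P := {s | (orderOf s = 3 ∧ s ∈ CO o) ∧ fr s = 2 ^ 12})
    (fun x hx => ⟨hx.2.1, hx.1.1, ⟨ord_pp F.ch Nat.prime_three (by norm_num) hx.2.1 hx.1.1,
      pp_CO F Fo hE hx.2.1 hx.2.2⟩, hB x hx.2.1 hx.1.1 hx.1.2⟩)
    (le_trans (Set.ncard_le_ncard (fun _ h => h.1) (Set.toFinite _)) (co3 Fo)) fun s hs => kn_twelve hs.2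

end frame

end Cfsg.Agent.SP.Mon.Two
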