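import Cfsg.Agent.SP.Mon.Two.Cnt
import Cfsg.Agent.R2.M7.Geo

/-! # S5755, the Monster, 2-local subgroups: the quadratic form on an ark

* `lag` : an involution normalising the ark centralises a totally singular subgroup of order at least 16;
* `pairs_le` : at most `527 * 270` ordered pairs of collinear points;
* `exists_comm_pt` : an involution normalising the ark and not centralising it has a commutator which is a point. -/

set_option autoImplicit false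
set_option linter.unusedSectionVars false

namespace Cfsg.Agent.SP.Mon.Two

open Cfsg.Agent.R2.M7

variable {G : Type*} [Group G] [Finite G] {Γ : Geo G} {O : Subgroup G}

theorem z2 : ∀ a : ZMod 2, a = 0 ∨ a = 1 := by decide

theorem kap_zero {x : G} : Γ.kap x = 0 ↔ x = 1 ∨ x ∈ Γ.Pt := by
  unfold Geo.kap
  split_ifs with h
  · exact ⟨fun _ => h, fun _ => rfl⟩
  · exact ⟨fun e => absurd e one_ne_zero, fun e => absurd e h⟩

theorem kap_one : Γ.kap 1 = 0 := kap_zero.2 (Or.inl rfl)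

theorem kap_mul (a b : G) : Γ.kap (a * b) = Γ.kap a + Γ.kap b + Γ.bet a b := by
  unfold Geo.bet
  generalize Γ.kap (a * b) = x
  generalize Γ.kap a = y
  generalize Γ.kap b = w
  revert x y w; decide

theorem bet_zero {a b : G} (ha : Γ.kap a = 0) (hb : Γ.kap b = 0) (hab : Γ.kap (a * b) = 0) : Γ.bet a b = 0 := by
  unfold Geo.bet
  rw [ha, hb, hab]; rfl

theorem kap_conj (hB : Γ.Basic) (g x : G) : Γ.kap (g * x * g⁻¹) = Γ.kap x := by
  have h : Γ.kap (g * x * g⁻¹) = 0 ↔ Γ.kap x = 0 := by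
    rw [kap_zero, kap_zero]
    refine or_congr (by simp) ⟨fun h => ?_, fun h => hB.pt_conj x h g⟩
    simpa [mul_assoc] using hB.pt_conj _ h g⁻¹
  generalize Γ.kap (g * x * g⁻¹) = a at h
  generalize Γ.kap x = b at h
  revert a b; decide

theorem bet_conj (hB : Γ.Basic) (g a b : G) : Γ.bet (g * a * g⁻¹) (g * b * g⁻¹) = Γ.bet a b := by
  unfold Geo.bet
  rw [show g * a * g⁻¹ * (g * b * g⁻¹) = g * (a * b) * g⁻¹ by group, kap_conj hB, kap_conj hB, kap_conj hB]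

section

variable (hA : Γ.ArkFacts) (hO : O ∈ Γ.Ark)
include hA hO

theorem bet_comm {a b : G} (ha : a ∈ O) (hb : b ∈ O) : Γ.bet a b = Γ.bet b a := by
  unfold Geo.bet
  rw [hA.comm O hO a ha b hb, add_right_comm]

theorem bet_mul' {a b c : G} (ha : a ∈ O) (hb : b ∈ O) (hc : c ∈ O) : Γ.bet a (b * c) = Γ.bet a b + Γ.bet a c := by
  rw [bet_comm hA hO ha (O.mul_mem hb hc), hA.bet_mul O hO b hb c hc a ha, bet_comm hA hO hb ha, bet_comm hA hO hc ha]

theorem inv_ark {a : G} (ha : a ∈ O) : a⁻¹ = a := inv_eq_of_mul_eq_one_left (hA.sq O hO a ha)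

/-- the orthogonal space -/
def perp (L : Set G) (hL : L ⊆ O) : Subgroup G where
  carrier := {v | v ∈ O ∧ ∀ u ∈ L, Γ.bet v u = 0}
  one_mem' := ⟨O.one_mem, fun u _ => by
    unfold Geo.bet
    rw [one_mul, kap_one, add_zero]
    exact CharTwo.add_self_eq_zero _⟩
  mul_mem' := fun {a b} ha hb => ⟨O.mul_mem ha.1 hb.1, fun u hu => by
    rw [hA.bet_mul O hO a ha.1 b hb.1 u (hL hu), ha.2 u hu, hb.2 u hu, add_zero]⟩
  inv_mem' := fun {a} ha => by rw [inv_ark hA hO ha.1]; exact ha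

theorem mem_perp {L : Set G} {hL : L ⊆ O} {v : G} : v ∈ perp hA hO L hL ↔ v ∈ O ∧ ∀ u ∈ L, Γ.bet v u = 0 := Iff.rfl

variable (h527 : {a | a ∈ O ∧ a ∈ Γ.Pt}.ncard = 527) (hB : Γ.Basic)
include h527 hB

theorem ncard_sing : {a | a ∈ O ∧ Γ.kap a = 0}.ncard = 528 := by
  have e : {a | a ∈ O ∧ Γ.kap a = 0} = insert 1 {a | a ∈ O ∧ a ∈ Γ.Pt} := by
    ext a
    simp only [Set.mem_ofPred_eq, Set.mem_insert_iff, kap_zero]
    constructor
    · rintro ⟨h1, h2 | h2⟩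
      · exact Or.inl h2
      · exact Or.inr ⟨h1, h2⟩
    · rintro (rfl | h)
      · exact ⟨O.one_mem, Or.inl rfl⟩
      · exact ⟨h.1, Or.inr h.2⟩
  rw [e, Set.ncard_insert_of_notMem (fun h => hB.pt_ne 1 h.2 rfl) (Set.toFinite _), h527]

/-- **The singular vectors of the orthogonal space of a totally singular set.** -/
theorem sing_perp {L : Set G} (hL : L ⊆ O) (h1 : ∀ u ∈ L, Γ.kap u = 0) (h2 : ∀ u ∈ L, ∀ v ∈ L, Γ.bet u v = 0) :
    2 * {v | v ∈ perp hA hO L hL ∧ Γ.kap v = 0}.ncard = 32 + Nat.card (perp hA hO L hL) := by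
  classical
  have : Nonempty G := ⟨1⟩
  let u0 : G → G := fun v => Classical.epsilon fun u => u ∈ L ∧ Γ.bet v u = 1
  have hu : ∀ v, v ∈ O → v ∉ perp hA hO L hL → u0 v ∈ L ∧ Γ.bet v (u0 v) = 1 := fun v hv hn => by
    refine Classical.epsilon_spec (p := fun u => u ∈ L ∧ Γ.bet v u = 1) ?_
    by_contra hc
    push Not at hc
    exact hn ⟨hv, fun u hu => (z2 _).resolve_right (hc u hu)⟩
  have hb : ∀ v ∈ O, ∀ w ∈ L, ∀ u ∈ L, Γ.bet (v * w) u = Γ.bet v u := fun v hv w hw u hu => by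
    rw [hA.bet_mul O hO v hv w (hL hw) u (hL hu), h2 w hw u hu, add_zero]
  have hs : ∀ v ∈ O, ∀ w ∈ L, u0 (v * w) = u0 v := fun v hv w hw => by
    show Classical.epsilon _ = Classical.epsilon _
    congr 1
    funext u
    exact propext (and_congr_right fun hu => by rw [hb v hv w hw u hu])
  have key : ∀ a b : ZMod 2, b = a + 1 → {v | (v ∈ O ∧ v ∉ perp hA hO L hL) ∧ Γ.kap v = a}.ncard ≤
      {v | (v ∈ O ∧ v ∉ perp hA hO L hL) ∧ Γ.kap v = b}.ncard := by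
    intro a b hab
    refine ncard_le_of_inj (fun v => v * u0 v) (Set.toFinite _) (fun v hv => ?_) fun v hv w hw e => ?_
    · obtain ⟨h3, h4⟩ := hu v hv.1.1 hv.1.2
      refine ⟨⟨O.mul_mem hv.1.1 (hL h3), fun h => hv.1.2 ⟨hv.1.1, fun u hu => ?_⟩⟩, ?_⟩
      · rw [← hb v hv.1.1 _ h3 u hu]; exact h.2 u hu
      · rw [kap_mul, hv.2, h1 _ h3, h4, add_zero, hab]
    · have e' : v * u0 v = w * u0 w := e
      have h3 : u0 v = u0 w := by
        rw [← hs v hv.1.1 _ (hu v hv.1.1 hv.1.2).1, e', hs w hw.1.1 _ (hu w hw.1.1 hw.1.2).1]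
      rw [h3] at e'
      exact mul_right_cancel e'
  have k1 := le_antisymm (key 0 1 rfl) (key 1 0 rfl)
  have split : ∀ (X : Set G) (p : G → Prop), X.ncard = {v | v ∈ X ∧ p v}.ncard + {v | v ∈ X ∧ ¬ p v}.ncard := by
    intro X p
    rw [← Set.ncard_union_eq (Set.disjoint_left.2 fun _ h h' => h'.2 h.2)]
    congr 1
    ext v
    simp only [Set.mem_union, Set.mem_ofPred_eq]
    tauto
  have s1 := split (O : Set G) (· ∈ perp hA hO L hL)
  have s2 := split {a | a ∈ O ∧ Γ.kap a = 0} (· ∈ perp hA hO L hL)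
  have s3 := split {v | v ∈ O ∧ v ∉ perp hA hO L hL} (Γ.kap · = 0)
  have e1 : {v | v ∈ (O : Set G) ∧ v ∈ perp hA hO L hL}.ncard = Nat.card (perp hA hO L hL) := by
    rw [← SetLike.coe_sort_coe, Nat.card_coe_set_eq]
    congr 1
    ext v
    exact ⟨fun h => h.2, fun h => ⟨h.1, h⟩⟩
  have e2 : {v | v ∈ {a | a ∈ O ∧ Γ.kap a = 0} ∧ v ∈ perp hA hO L hL} = {v | v ∈ perp hA hO L hL ∧ Γ.kap v = 0} := by
    ext v
    exact ⟨fun h => ⟨h.2, h.1.2⟩, fun h => ⟨⟨h.1.1, h.2⟩, h.1⟩⟩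
  have e3 : {v | v ∈ {a | a ∈ O ∧ Γ.kap a = 0} ∧ v ∉ perp hA hO L hL} =
      {v | (v ∈ O ∧ v ∉ perp hA hO L hL) ∧ Γ.kap v = 0} := by
    ext v
    exact ⟨fun h => ⟨⟨h.1.1, h.2⟩, h.1.2⟩, fun h => ⟨⟨h.1.1, h.2⟩, h.1.2⟩⟩
  have e4 : {v | v ∈ {v | v ∈ O ∧ v ∉ perp hA hO L hL} ∧ ¬ Γ.kap v = 0} =
      {v | (v ∈ O ∧ v ∉ perp hA hO L hL) ∧ Γ.kap v = 1} := by
    ext v
    exact and_congr_right fun _ => ⟨fun h => (z2 _).resolve_left h, fun h => by rw [h]; exact one_ne_zero⟩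
  have e5 : (O : Set G).ncard = 2 ^ 10 := hA.card O hO
  rw [e1, e5] at s1
  rw [e2, e3, ncard_sing hA hO h527 hB] at s2
  rw [e4] at s3
  have e6 : {v | v ∈ (O : Set G) ∧ v ∉ perp hA hO L hL}.ncard = {v | v ∈ O ∧ v ∉ perp hA hO L hL}.ncard := rfl
  have e7 : {v | v ∈ {v | v ∈ O ∧ v ∉ perp hA hO L hL} ∧ Γ.kap v = 0}.ncard =
    {v | (v ∈ O ∧ v ∉ perp hA hO L hL) ∧ Γ.kap v = 0}.ncard := rfl
  omega

/-- a totally singular subgroup lies in one of order at least 32 -/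
theorem exists_big {R : Subgroup G} (hR : R ≤ O) (h1 : ∀ u ∈ R, Γ.kap u = 0) :
    ∃ L : Subgroup G, R ≤ L ∧ L ≤ O ∧ (∀ u ∈ L, Γ.kap u = 0) ∧ 32 ≤ Nat.card L := by
  obtain ⟨L, ⟨l1, l2, l3⟩, hmax⟩ := exists_maximal_of_wellFoundedGT
    (fun L : Subgroup G => R ≤ L ∧ L ≤ O ∧ ∀ u ∈ L, Γ.kap u = 0) ⟨R, le_rfl, hR, h1⟩
  refine ⟨L, l1, l2, l3, ?_⟩
  have hb : ∀ u ∈ L, ∀ v ∈ L, Γ.bet u v = 0 := fun u hu v hv => bet_zero (l3 u hu) (l3 v hv) (l3 _ (L.mul_mem hu hv))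
  have h := sing_perp hA hO h527 hB (L := (L : Set G)) l2 l3 hb
  have hle : L ≤ perp hA hO (L : Set G) l2 := fun u hu => ⟨l2 hu, hb u hu⟩
  have e : {v | v ∈ perp hA hO (L : Set G) l2 ∧ Γ.kap v = 0} = (L : Set G) := by
    ext v
    refine ⟨fun hv => ?_, fun hv => ⟨hle hv, l3 v hv⟩⟩
    have hvO := hv.1.1
    have hx : ∀ x, x * v ∈ L → x ∈ O := fun x h => by simpa using O.mul_mem (l2 h) (O.inv_mem hvO)
    let L' : Subgroup G :=
      { carrier := {x | x ∈ L ∨ x * v ∈ L}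
        one_mem' := Or.inl L.one_mem
        mul_mem' := by
          rintro a b (ha | ha) (hb | hb)
          · exact Or.inl (L.mul_mem ha hb)
          · exact Or.inr (by rw [mul_assoc]; exact L.mul_mem ha hb)
          · refine Or.inr ?_
            rw [mul_assoc, hA.comm O hO b (l2 hb) v hvO, ← mul_assoc]
            exact L.mul_mem ha hb
          · refine Or.inl ?_
            have := L.mul_mem ha hb
            rwa [hA.comm O hO b (hx b hb) v hvO, mul_assoc, ← mul_assoc v v, hA.sq O hO v hvO, one_mul] at this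
        inv_mem' := by
          rintro a (ha | ha)
          · exact Or.inl (L.inv_mem ha)
          · rw [inv_ark hA hO (hx a ha)]; exact Or.inr ha }
    have hL' : L ≤ L' := fun x hx => Or.inl hx
    refine hmax (y := L') ⟨l1.trans hL', ?_, ?_⟩ hL' (Or.inr (by rw [hA.sq O hO v hvO]; exact L.one_mem))
    · rintro a (ha | ha)
      · exact l2 ha
      · exact hx a ha
    · rintro a (ha | ha)
      · exact l3 a ha
      · have e : a = v * (a * v) := by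
          rw [hA.comm O hO a (hx a ha) v hvO, ← mul_assoc, hA.sq O hO v hvO, one_mul]
        rw [e, kap_mul, hv.2, l3 _ ha, hv.1.2 _ ha]; rfl
  have h3 := Subgroup.card_le_of_le hle
  have h4 : (L : Set G).ncard = Nat.card L := rfl
  rw [e, h4] at h
  omega

/-- **The pairs of collinear points.** -/
theorem pairs_le : {p : G × G | (p.1 ∈ O ∧ p.1 ∈ Γ.Pt) ∧ (p.2 ∈ O ∧ p.2 ∈ Γ.Pt) ∧ p.1 * p.2 ∈ Γ.Pt}.ncard ≤ 527 * 270 := by
  rw [← h527]
  refine fib_le Prod.fst (Set.toFinite _) (Set.toFinite _) (fun p hp => hp.1) fun a ha => ?_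
  have ka : Γ.kap a = 0 := kap_zero.2 (Or.inr ha.2)
  have haa := hA.sq O hO a ha.1
  have hL : ({a} : Set G) ⊆ O := by rintro _ rfl; exact ha.1
  have hb : Γ.bet a a = 0 := bet_zero ka ka (by rw [haa]; exact kap_one)
  have h := sing_perp hA hO h527 hB hL (by rintro _ rfl; exact ka) (by rintro _ rfl _ rfl; exact hb)
  obtain ⟨b, hbO, hb1⟩ := hA.bet_nondeg O hO a ha.1 (hB.pt_ne a ha.2)
  have h2 := two_mul_card_le (H := perp hA hO {a} hL) (K := O) (fun _ h => h.1) hbO fun h => by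
    rw [h.2 a rfl] at hb1; exact zero_ne_one hb1
  rw [hA.card O hO] at h2
  have h3 : ({v | v ∈ perp hA hO {a} hL ∧ Γ.kap v = 0} \ {1, a}).ncard ≤ 270 := by
    rw [Set.ncard_diff (by
      rintro _ (rfl | rfl)
      · exact ⟨Subgroup.one_mem _, kap_one⟩
      · exact ⟨⟨ha.1, by rintro _ rfl; exact hb⟩, ka⟩), Set.ncard_pair (hB.pt_ne a ha.2).symm]
    omega
  refine le_trans (ncard_le_of_inj Prod.snd (Set.toFinite _) ?_ fun p hp q hq e => Prod.ext (hp.2.trans hq.2.symm) e) h3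
  rintro ⟨_, c⟩ ⟨⟨-, h5, h6⟩, rfl⟩
  have kc : Γ.kap c = 0 := kap_zero.2 (Or.inr h5.2)
  refine ⟨⟨⟨h5.1, ?_⟩, kc⟩, ?_⟩
  · rintro _ rfl
    rw [bet_comm hA hO h5.1 ha.1]
    exact bet_zero ka kc (kap_zero.2 (Or.inr h6))
  · rintro (h | h)
    · exact hB.pt_ne _ h5.2 h
    · exact hB.pt_ne _ h6 (by rw [show c = _ from h]; exact haa)

section inv

variable {t : G} (ht : t * t = 1) (hN : ∀ a ∈ O, t * a * t⁻¹ ∈ O)
include ht hN

omit hA hO h527 hN in
theorem bet_swap (a b : G) : Γ.bet (t * a * t⁻¹) b = Γ.bet a (t * b * t⁻¹) := by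
  rw [← bet_conj hB t (t * a * t⁻¹) b]
  congr 1
  calc t * (t * a * t⁻¹) * t⁻¹ = (t * t) * a * (t * t)⁻¹ := by group
    _ = a := by rw [ht]; simp

omit h527 in
theorem fix_of_perp {v : G} (hv : v ∈ O) (h : ∀ w ∈ O, Γ.bet v (t * w * t⁻¹ * w) = 0) : t * v = v * t := by
  have h1 : t * v * t⁻¹ * v = 1 := by
    by_contra hne
    obtain ⟨b, hb, hb1⟩ := hA.bet_nondeg O hO _ (O.mul_mem (hN v hv) hv) hne
    rw [bet_comm hA hO hb (O.mul_mem (hN v hv) hv), hA.bet_mul O hO _ (hN v hv) v hv b hb, bet_swap hB ht,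
      ← bet_mul' hA hO hv (hN b hb) hb, h b hb] at hb1
    exact zero_ne_one hb1
  rw [mul_eq_one_iff_eq_inv, inv_ark hA hO hv] at h1
  exact mul_inv_eq_iff_eq_mul.1 h1

omit h527 in
theorem bet_cc {u w : G} (hu : u ∈ O) (hw : w ∈ O) : Γ.bet (t * u * t⁻¹ * u) (t * w * t⁻¹ * w) = 0 := by
  rw [hA.bet_mul O hO _ (hN u hu) u hu _ (O.mul_mem (hN w hw) hw), bet_mul' hA hO (hN u hu) (hN w hw) hw,
    bet_mul' hA hO hu (hN w hw) hw, bet_conj hB, bet_swap hB ht]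
  generalize Γ.bet u w = a
  generalize Γ.bet u (t * w * t⁻¹) = b
  revert a b; decide

omit h527 hB ht in
theorem cc_mul {u w : G} (hu : u ∈ O) (hw : w ∈ O) :
    t * u * t⁻¹ * u * (t * w * t⁻¹ * w) = t * (u * w) * t⁻¹ * (u * w) := by
  calc t * u * t⁻¹ * u * (t * w * t⁻¹ * w) = t * u * t⁻¹ * (u * (t * w * t⁻¹)) * w := by group
    _ = t * (u * w) * t⁻¹ * (u * w) := by rw [hA.comm O hO u hu _ (hN w hw)]; group

/-- **A totally singular subgroup of order 16 of fixed points.** -/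
theorem lag : ∃ U : Subgroup G, U ≤ O ∧ 16 ≤ Nat.card U ∧ ∀ u ∈ U, Γ.kap u = 0 ∧ t * u = u * t := by
  let R : Subgroup G :=
    { carrier := {r | (∃ u ∈ O, r = t * u * t⁻¹ * u) ∧ Γ.kap r = 0}
      one_mem' := ⟨⟨1, O.one_mem, by simp⟩, kap_one⟩
      mul_mem' := by
        rintro _ _ ⟨⟨u, hu, rfl⟩, h1⟩ ⟨⟨w, hw, rfl⟩, h2⟩
        exact ⟨⟨u * w, O.mul_mem hu hw, cc_mul hA hO hN hu hw⟩, by
          rw [kap_mul, h1, h2, bet_cc hA hO hB ht hN hu hw]; rfl⟩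
      inv_mem' := by
        rintro _ ⟨⟨u, hu, rfl⟩, h1⟩
        rw [inv_ark hA hO (O.mul_mem (hN u hu) hu)]
        exact ⟨⟨u, hu, rfl⟩, h1⟩ }
  obtain ⟨L, l1, l2, l3, l4⟩ := exists_big hA hO h527 hB (R := R)
    (by rintro _ ⟨⟨u, hu, rfl⟩, -⟩; exact O.mul_mem (hN u hu) hu) fun _ h => h.2
  have hb : ∀ u ∈ L, ∀ v ∈ L, Γ.bet u v = 0 := fun u hu v hv => bet_zero (l3 u hu) (l3 v hv) (l3 _ (L.mul_mem hu hv))
  by_cases hc : ∀ w ∈ O, Γ.kap (t * w * t⁻¹ * w) = 0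
  · exact ⟨L, l2, by omega, fun u hu => ⟨l3 u hu, fix_of_perp hA hO hB ht hN (l2 hu) fun w hw =>
      hb u hu _ (l1 ⟨⟨w, hw, rfl⟩, hc w hw⟩)⟩⟩
  push Not at hc
  obtain ⟨w, hw, hw1⟩ := hc
  have hr := O.mul_mem (hN w hw) hw
  have hL : ({t * w * t⁻¹ * w} : Set G) ⊆ O := by rintro _ rfl; exact hr
  refine ⟨L ⊓ perp hA hO _ hL, inf_le_left.trans l2, ?_, fun u hu => ⟨l3 u hu.1, ?_⟩⟩
  · have h1 : 2 * 16 ≤ 2 * Nat.card (L ⊓ perp hA hO _ hL : Subgroup G) := by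
      refine l4.trans ?_
      have h2 := fib_le (fun v => Γ.bet v (t * w * t⁻¹ * w)) (X := (L : Set G)) (P := Set.univ) (Set.toFinite _)
        (Set.toFinite _) (f := Nat.card (L ⊓ perp hA hO _ hL : Subgroup G)) (fun _ _ => trivial) fun a _ =>
          ncard_le_of_quot fun u hu v hv => ⟨L.mul_mem (L.inv_mem hu.1) hv.1, O.mul_mem (O.inv_mem (l2 hu.1)) (l2 hv.1), by
            rintro _ rfl
            rw [inv_ark hA hO (l2 hu.1), hA.bet_mul O hO u (l2 hu.1) v (l2 hv.1) _ hr, hu.2, hv.2]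
            exact CharTwo.add_self_eq_zero _⟩
      rwa [Set.ncard_univ, Nat.card_zmod] at h2
    omega
  · refine fix_of_perp hA hO hB ht hN (l2 hu.1) fun v hv => ?_
    rcases z2 (Γ.kap (t * v * t⁻¹ * v)) with h | h
    · exact hb u hu.1 _ (l1 ⟨⟨v, hv, rfl⟩, h⟩)
    · have h1 := hb u hu.1 _ (l1 ⟨⟨v * w, O.mul_mem hv hw, cc_mul hA hO hN hv hw⟩, by
        rw [kap_mul, h, (z2 _).resolve_left hw1, bet_cc hA hO hB ht hN hv hw]; rfl⟩)
      rwa [bet_mul' hA hO (l2 hu.1) (O.mul_mem (hN v hv) hv) hr, hu.2.2 _ rfl, add_zero] at h1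

omit h527 in
/-- **No reflections.** -/
theorem exists_comm_pt (hn : ∃ a ∈ O, t * a ≠ a * t) : ∃ u ∈ O, t * u * t⁻¹ * u ∈ Γ.Pt := by
  by_contra hc
  push Not at hc
  obtain ⟨a, ha, hta⟩ := hn
  have hw := O.mul_mem (hN a ha) ha
  have hw1 : t * a * t⁻¹ * a ≠ 1 := fun e => hta (by
    rw [mul_eq_one_iff_eq_inv, inv_ark hA hO ha] at e
    exact mul_inv_eq_iff_eq_mul.1 e)
  have hk : ∀ u ∈ O, t * u * t⁻¹ * u ≠ 1 → Γ.kap (t * u * t⁻¹ * u) = 1 := fun u hu h =>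
    (z2 _).resolve_left fun h0 => (kap_zero.1 h0).elim h (hc u hu)
  have hR : ∀ u ∈ O, t * u * t⁻¹ * u = 1 ∨ t * u * t⁻¹ * u = t * a * t⁻¹ * a := by
    intro u hu
    by_contra h
    push Not at h
    have h1 := hk (u * a) (O.mul_mem hu ha) (by
      rw [← cc_mul hA hO hN hu ha, Ne, mul_eq_one_iff_eq_inv, inv_ark hA hO hw]; exact h.2)
    rw [← cc_mul hA hO hN hu ha, kap_mul, hk u hu h.1, hk a ha hw1, bet_cc hA hO hB ht hN hu ha] at h1
    exact absurd h1 (by decide)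
  have hz : ∀ s ∈ Subgroup.zpowers t, s = 1 ∨ s = t := by
    rintro _ ⟨k, rfl⟩
    have h2 : t ^ (2 : ℤ) = 1 := by rw [zpow_two, ht]
    rcases Int.even_or_odd' k with ⟨m, rfl | rfl⟩
    · left; show t ^ (2 * m) = 1; rw [zpow_mul, h2, one_zpow]
    · right; show t ^ (2 * m + 1) = t; rw [zpow_add, zpow_mul, h2, one_zpow, one_mul, zpow_one]
  obtain ⟨v, hv, hvP, -, hvQ⟩ := hA.omega O hO (Subgroup.zpowers t)
    (fun s => ⟨1, Subtype.ext (by
      show (s : G) ^ 2 ^ 1 = 1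
      rcases hz s s.2 with h | h <;> rw [h, pow_one, pow_two]
      · exact mul_one 1
      · exact ht)⟩)
    (fun s hs b hb => by
      rcases hz s hs with rfl | rfl
      · simpa using hb
      · exact hN b hb) ⟨t, Subgroup.mem_zpowers t, a, ha, hta⟩
  have key : ∀ b ∈ O, Γ.bet b (t * a * t⁻¹ * a) = 0 → Γ.bet b v = 0 := fun b hb h0 => by
    refine (hA.bet_iff O hO v hv hvP b hb).1 (hvQ b hb fun s hs => ?_)
    rcases hz s hs with rfl | rfl
    · simp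
    · refine fix_of_perp hA hO hB ht hN hb fun u hu => ?_
      rcases hR u hu with h | h <;> rw [h]
      · unfold Geo.bet
        rw [mul_one, kap_one, add_right_comm, add_zero]
        exact CharTwo.add_self_eq_zero _
      · exact h0
  obtain ⟨c, hcO, hc1⟩ := hA.bet_nondeg O hO v hv (hB.pt_ne v hvP)
  obtain ⟨b, hbO, hb1⟩ := hA.bet_nondeg O hO _ (O.mul_mem hv hw) (fun e => hc a ha (by
    rw [mul_eq_one_iff_eq_inv, inv_ark hA hO hw] at e
    exact e ▸ hvP))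
  rw [bet_mul' hA hO hbO hv hw] at hb1
  have k1 := key b hbO
  have k2 := key c hcO
  have k3 := key (b * c) (O.mul_mem hbO hcO)
  rw [hA.bet_mul O hO b hbO c hcO _ hw, hA.bet_mul O hO b hbO c hcO _ hv] at k3
  generalize Γ.bet b v = p at *
  generalize Γ.bet c v = q at *
  generalize Γ.bet b (t * a * t⁻¹ * a) = r at *
  generalize Γ.bet c (t * a * t⁻¹ * a) = s at *
  revert p q r s
  decide

end inv

end

end Cfsg.Agent.SP.Mon.Two
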