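import Cfsg.Agent.SP.Mon.Two.Co
import Cfsg.Agent.R2.H4.Mon.Eight
import Cfsg.Agent.ConwayFacts.AutCo1
import Cfsg.Agent.H813.OctQuad

/-! # S5755, the Monster, 2-local subgroups: sextet classes and counts in stabilisers

* `S4` : the classes of type 4 in `W12` outside `W1`; `ncard_S4`, `S4_trans`;
* `m2a`, `m2`, `m3`, `m12` : the elements of order 2, 3 fixing the frame class;
* `pk18`, `pk16`, `pk`, `p12` : the elements of order 3 with `s • f0 = v`, `f0 + s • f0 + s • s • f0 = 0`;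
* `co3`, `co5` : the elements of order 3, 5 centralising the sign change of an octad. -/

set_option autoImplicit false

namespace Cfsg.Agent.SP.Mon.Two

open Cfsg
open Cfsg.Agent.H848.TrioU
open Cfsg.Agent.SporadicA
open Cfsg.Agent.SporadicA.Xi (IsSextet fib mem_fib xiCo0)
open Cfsg.Agent.SporadicA.Co0Mono (signCo0 permCo0 wordPerm)
open Cfsg.Agent.CoOneType.SignFacts
open Cfsg.Agent.CoOneType.CoOneE (pr mem_E)
open Cfsg.Agent.MonsterU.Lam2
open Cfsg.Agent.MonsterU.CoFrameL2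
open Cfsg.Agent.R2.H8.Mon.Cw Cfsg.Agent.R2.H8.Mon.Refine Cfsg.Agent.R2.H8.Mon.Lat Cfsg.Agent.R2.H8.Mon.Sing
open Cfsg.Agent.ConwayFacts.NormL2 (isType_f0 ncard_four orbit_eq)
open Cfsg.Agent.H848.Oct (eps eps_mul_eps CO mem_CO)
open Cfsg.Agent.LThreeMB (fr fr_conj)
open Cfsg.Spor (Co1)
open Subgroup (centralizer mem_centralizer_singleton_iff)
open scoped Pointwise

/-- the sextet classes -/
def S4 : Set L2 := {v | v ∈ W12 ∧ v ∉ W1 ∧ IsType 4 v}

theorem pairL_f0 (c : golayCode) : pairL f0 c = 0 := (mem_W1_iff_pairL (W1_le_W12 f0_mem_W1)).1 f0_mem_W1 c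

theorem exists_sign {v : L2} (h : v ∈ W12) (h1 : v ∉ W1) : ∃ s ∈ F, s • v = v + f0 := by
  rw [mem_W1_iff_pairL h] at h1
  push Not at h1
  obtain ⟨c, hc⟩ := h1
  exact ⟨pr (signCo0 c), E_le_F ((mem_E _).2 ⟨c, rfl⟩), by rw [sign_smul h, if_neg hc]⟩

theorem S4_smul {s : Co1} (hs : s ∈ F) {v : L2} (hv : v ∈ S4) : s • v ∈ S4 :=
  ⟨F_mem_W12 hs hv.1, fun h => hv.2.1 (by simpa using F_mem_W1 (F.inv_mem hs) h), hv.2.2.smul1 s⟩

theorem S4_add {v : L2} (hv : v ∈ S4) : v + f0 ∈ S4 := by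
  obtain ⟨s, hs, e⟩ := exists_sign hv.1 hv.2.1
  exact e ▸ S4_smul hs hv

theorem S4_tetrad {v : L2} (hv : v ∈ S4) : ∃ X : Finset GolayPt, X.card = 4 ∧ ∀ c, pairL v c = ev X c :=
  exists_tetrad hv.1 hv.2.1 fun h => H813.OctQuad.not_two_and_four h hv.2.2

theorem exists_S4 {X : Finset GolayPt} (hX : X.card = 4) : ∃ v ∈ S4, ∀ c, pairL v c = ev X c := by
  obtain ⟨T, hT, h0⟩ := exists_sx hX
  obtain ⟨h1, h2⟩ := pairL_xi hT.sext
  rw [h0] at h2
  refine ⟨_, ⟨h1, fun h => ?_, isType_f0.smul1 _⟩, h2⟩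
  have h3 := card_cases (mem_supports_of_ev (X := X) fun c => by rw [← h2]; exact (mem_W1_iff_pairL h1).1 h c)
  omega

/-- **Transitivity.** -/
theorem S4_trans {v w : L2} (hv : v ∈ S4) (hw : w ∈ S4) : ∃ s ∈ F, s • v = w := by
  classical
  obtain ⟨X, hX, h1⟩ := S4_tetrad hv
  obtain ⟨Y, hY, h2⟩ := S4_tetrad hw
  obtain ⟨σ, hσ⟩ := SporadicStructure.M24IndexMain.exists_smul_eq_finset S0366.result (n := 4) (by norm_num) hX hY
  have hF : pr (signCo0 0 * permCo0 σ) ∈ F := MonsterU.CoFrameF.sp_mem_F 0 σ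
  have h3 := eq_or_of_pairL (F_mem_W12 hF hv.1) hw.1 (fun d => by
    obtain ⟨d, rfl⟩ : ∃ d', d = wordPerm σ d' := by
      refine ⟨wordPerm σ⁻¹ d, ?_⟩
      apply Subtype.ext
      funext i
      rw [Co0Mono.wordPerm_apply, Co0Mono.wordPerm_apply]
      exact congrArg (d : GolayPt → ZMod 2) (Equiv.apply_symm_apply (σ : Equiv.Perm GolayPt) i).symm
    rw [pairL_sp hv.1, h1, h2, ← hσ, ev_smul])
  rcases h3 with h | h
  · exact ⟨_, hF, h⟩
  · obtain ⟨s, hs, e⟩ := exists_sign hw.1 hw.2.1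
    exact ⟨s⁻¹ * _, F.mul_mem (F.inv_mem hs) hF, by rw [mul_smul, h, ← e, inv_smul_smul]⟩

/-- the tetrads through the point `none` -/
def P4 : Set (Finset GolayPt) := {X | X.card = 4 ∧ none ∈ X}

theorem ncard_P4 : P4.ncard = 1771 := by
  classical
  have e : P4 = (fun Y => insert none Y) '' ((Finset.powersetCard 3 (Finset.univ.erase (none : GolayPt)) : Finset _) : Set _) := by
    ext X
    constructor
    · rintro ⟨h1, h2⟩
      refine ⟨X.erase none, Finset.mem_coe.2 (Finset.mem_powersetCard.2 ⟨Finset.erase_subset_erase _ (Finset.subset_univ _), ?_⟩),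
        Finset.insert_erase h2⟩
      rw [Finset.card_erase_of_mem h2, h1]
    · rintro ⟨Y, hY, rfl⟩
      obtain ⟨h1, h2⟩ := Finset.mem_powersetCard.1 (Finset.mem_coe.1 hY)
      have h3 : none ∉ Y := fun h => by simpa using h1 h
      exact ⟨by rw [Finset.card_insert_of_notMem h3, h2], Finset.mem_insert_self _ _⟩
  rw [e, Set.InjOn.ncard_image, Set.ncard_coe_finset, Finset.card_powersetCard,
    Finset.card_erase_of_mem (Finset.mem_univ _), Finset.card_univ]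
  · have : Fintype.card GolayPt = 24 := by decide
    rw [this]
    decide
  · intro Y hY Z hZ h
    have h1 : none ∉ Y := fun h => by simpa using (Finset.mem_powersetCard.1 (Finset.mem_coe.1 hY)).1 h
    have h2 : none ∉ Z := fun h => by simpa using (Finset.mem_powersetCard.1 (Finset.mem_coe.1 hZ)).1 h
    have h3 : insert none Y = insert none Z := h
    rw [← Finset.erase_insert h1, h3, Finset.erase_insert h2]

/-- **The number of the sextet classes.** -/
theorem ncard_S4 : S4.ncard = 3542 := by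
  classical
  have h0 : ∀ X : Finset GolayPt, ∃ v : L2, X.card = 4 → v ∈ S4 ∧ ∀ c, pairL v c = ev X c := by
    intro X
    by_cases hX : X.card = 4
    · obtain ⟨v, h1, h2⟩ := exists_S4 hX
      exact ⟨v, fun _ => ⟨h1, h2⟩⟩
    · exact ⟨0, fun h => absurd h hX⟩
  choose vX hvX using h0
  have e : S4 = (fun p : Finset GolayPt × L2 => vX p.1 + p.2) '' (P4 ×ˢ ({0, f0} : Set L2)) := by
    ext v
    constructor
    · intro hv
      obtain ⟨X, hX, h1⟩ := S4_tetrad hv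
      obtain ⟨T, hT, -⟩ := exists_sx hX
      have h2 := hvX _ (hT.card (T none))
      rcases eq_or_of_pairL hv.1 h2.1.1 (fun c => by rw [h1, h2.2, hT.ev (T none)]) with h | h
      · exact ⟨(fib T (T none), 0), ⟨⟨hT.card _, mem_fib.2 rfl⟩, Or.inl rfl⟩, by rw [h]; exact add_zero _⟩
      · exact ⟨(fib T (T none), f0), ⟨⟨hT.card _, mem_fib.2 rfl⟩, Or.inr rfl⟩, h.symm⟩
    · rintro ⟨⟨X, a⟩, ⟨hX, rfl | rfl⟩, rfl⟩
      · show vX X + 0 ∈ S4
        rw [add_zero]; exact (hvX X hX.1).1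
      · exact S4_add (hvX X hX.1).1
  rw [e, Set.InjOn.ncard_image, Set.ncard_prod, ncard_P4, Set.ncard_pair f0_ne.symm]
  rintro ⟨X, a⟩ ⟨hX, ha⟩ ⟨Y, b⟩ ⟨hY, hb⟩ h
  have h' : vX X + a = vX Y + b := h
  have h1 : ∀ a ∈ ({0, f0} : Set L2), ∀ c, pairL a c = 0 := by
    rintro a (rfl | rfl) c
    · exact pairL_zero c
    · exact pairL_f0 c
  have h2 : X = Y := eq_of_ev hX.1.le hY.1.le (fun c => by
    have := congrArg (pairL · c) h'
    simp only [pairL_add, h1 a ha, h1 b hb, add_zero] at this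
    rw [← (hvX X hX.1).2, this, (hvX Y hY.1).2]) ⟨none, Finset.mem_inter.2 ⟨hX.2, hY.2⟩⟩
  subst h2
  rw [add_left_cancel h']

/-! ### double counting along an orbit -/

theorem dcG {H Ω : Type*} [Group H] [Finite H] (Rel : H → Ω → Prop) {X : Set H} {Ob : Set Ω} (hO : Ob.Finite) (ω₀ : Ω)
    {f : ℕ} (htr : ∀ ω ∈ Ob, ∃ g : H, ∀ s ∈ X, Rel s ω₀ → g * s * g⁻¹ ∈ X ∧ Rel (g * s * g⁻¹) ω)
    (hf : ∀ s ∈ X, {ω | ω ∈ Ob ∧ Rel s ω}.ncard ≤ f) :
    Ob.ncard * {s | s ∈ X ∧ Rel s ω₀}.ncard ≤ X.ncard * f := by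
  refine dc Rel (Set.toFinite _) hO (fun ω hω => ?_) hf
  obtain ⟨g, hg⟩ := htr ω hω
  exact ncard_conj_le g⁻¹ fun s hs => by rw [inv_inv]; exact hg s hs.1 hs.2

theorem exists_four {v : L2} (hv : IsType 4 v) : ∃ g : Co1, g • f0 = v := by
  obtain ⟨g, hg⟩ := IsType.trans (Or.inr (Or.inr rfl)) isType_f0 hv
  exact ⟨QuotientGroup.mk g, hg⟩

theorem fix_le {X : Set Co1} (hX : ∀ s ∈ X, ∀ g : Co1, g * s * g⁻¹ ∈ X) {n f m : ℕ} (hn : X.ncard ≤ n)
    (hf : ∀ s ∈ X, fr s ≤ f) (hm : n * f < 8292375 * (m + 1)) : {s | s ∈ X ∧ s • f0 = f0}.ncard ≤ m := by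
  have := finCo
  have := finL2
  have h := dcG (fun (s : Co1) (v : L2) => s • v = v) (X := X) (Ob := {x : L2 | IsType 4 x}) (Set.toFinite _) f0
    (f := f) (fun v hv => ?_) (fun s hs => ?_)
  · rw [ncard_four] at h
    have h1 := (h.trans (Nat.mul_le_mul_right _ hn)).trans_lt hm
    exact Nat.lt_succ_iff.1 (Nat.lt_of_mul_lt_mul_left h1)
  · obtain ⟨g, rfl⟩ := exists_four hv
    exact ⟨g, fun s hs h => ⟨hX s hs g, by rw [mul_smul, inv_smul_smul, mul_smul, h]⟩⟩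
  · refine le_trans ?_ (hf s hs)
    rw [fr_eq]
    exact Set.ncard_le_ncard (fun _ h => h.2) (Set.toFinite _)

theorem m2a : {s | s ∈ {g : Co1 | orderOf g = 2 ∧ 2 ^ 12 < fr g} ∧ s • f0 = f0}.ncard ≤ 368457 :=
  fix_le (fun s hs g => And.intro ((ord_conj g s).trans hs.1) (by rw [fr_conj]; exact hs.2)) n2a (fun _ hs => fr_two hs.1)
    (by norm_num)

theorem m2 : {s | s ∈ {g : Co1 | orderOf g = 2 ∧ fr g ≤ 2 ^ 12} ∧ s • f0 = f0}.ncard ≤ 6319021 := by
  have := finCo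
  exact fix_le (fun s hs g => And.intro ((ord_conj g s).trans hs.1) (by rw [fr_conj]; exact hs.2))
    (le_trans (Set.ncard_le_ncard (fun _ h => h.1) (Set.toFinite _)) n2) (fun _ hs => hs.2) (by norm_num)

theorem m3 : {s | s ∈ {g : Co1 | orderOf g = 3} ∧ s • f0 = f0}.ncard ≤ 3970977537 :=
  fix_le (fun s hs g => (ord_conj g s).trans hs) n3 (fun _ hs => fr_three hs) (by norm_num)

theorem n12' : {g : Co1 | orderOf g = 3 ∧ fr g = 2 ^ 12}.ncard ≤ 70726656000 := by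
  have := finCo
  exact le_trans (Set.ncard_le_ncard (fun _ h => And.intro h.1 (by rw [h.2]; norm_num)) (Set.toFinite _)) n12

theorem m12 : {s | s ∈ {g : Co1 | orderOf g = 3 ∧ fr g = 2 ^ 12} ∧ s • f0 = f0}.ncard ≤ 34935273 :=
  fix_le (fun s hs g => And.intro ((ord_conj g s).trans hs.1) (by rw [fr_conj]; exact hs.2)) n12' (fun _ hs => hs.2.le)
    (by norm_num)

/-- the orbit of a pair -/
theorem orb_ge {v : L2} (hv : v ∈ S4) : 29371592250 ≤ (MulAction.orbit Co1 (f0, v)).ncard := by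
  have := finL2
  have h := dc (fun (p : L2 × L2) (u : L2) => p.1 = u) (X := MulAction.orbit Co1 (f0, v)) (Ob := {x : L2 | IsType 4 x})
    (Set.toFinite _) (Set.toFinite _) (m := 3542) (f := 1) (fun u hu => ?_) (fun p _ => ?_)
  · rw [ncard_four] at h
    omega
  · obtain ⟨g, rfl⟩ := exists_four hu
    rw [← ncard_S4]
    refine ncard_le_of_inj (fun w => (g • f0, g • w)) (Set.toFinite _) (fun w hw => ⟨?_, rfl⟩)
      fun _ _ _ _ e => MulAction.injective g (congrArg Prod.snd e)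
    obtain ⟨s, hs, rfl⟩ := S4_trans hv hw
    exact ⟨g * s, Prod.ext (by show (g * s) • f0 = _; rw [mul_smul, smul_f0 hs]) (mul_smul g s v)⟩
  · exact (Set.ncard_le_one (Set.toFinite _)).2 fun a ha b hb => ha.2.symm.trans hb.2

theorem card_stab2 {v : L2} (hv : v ∈ S4) : Nat.card (MulAction.stabilizer Co1 (f0, v)) ≤ 141557760 := by
  have h1 := (MulAction.stabilizer Co1 (f0, v)).card_mul_index
  rw [MulAction.index_stabilizer, H68.CoMdl.card_co1] at h1
  have h2 := Nat.mul_le_mul_left (Nat.card (MulAction.stabilizer Co1 (f0, v))) (orb_ge hv)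
  omega

/-- the second relation -/
def R2 (s : Co1) (p : L2 × L2) : Prop := s • p.1 = p.2 ∧ p.1 + s • p.1 + s • s • p.1 = 0

theorem rot_le {v : L2} (hv : v ∈ S4) {X : Set Co1} (hX : ∀ s ∈ X, ∀ g : Co1, g * s * g⁻¹ ∈ X) {n f m : ℕ}
    (hn : X.ncard ≤ n) (hf : ∀ s ∈ X, kn s ≤ f) (hm : n * f < 29371592250 * (m + 1)) :
    {s | s ∈ X ∧ R2 s (f0, v)}.ncard ≤ m := by
  have := finCo
  have := finL2
  have h := dcG R2 (X := X) (Ob := MulAction.orbit Co1 (f0, v)) (Set.toFinite _) (f0, v)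
    (f := f) ?_ (fun s hs => ?_)
  · have h1 := (((Nat.mul_le_mul_right _ (orb_ge hv)).trans h).trans (Nat.mul_le_mul_right _ hn)).trans_lt hm
    exact Nat.lt_succ_iff.1 (Nat.lt_of_mul_lt_mul_left h1)
  · rintro _ ⟨g, rfl⟩
    refine ⟨g, fun s hs h => ⟨hX s hs g, ?_, ?_⟩⟩
    · show (g * s * g⁻¹) • g • f0 = g • v
      rw [mul_smul, inv_smul_smul, mul_smul, show s • f0 = v from h.1]
    · show g • f0 + (g * s * g⁻¹) • g • f0 + (g * s * g⁻¹) • (g * s * g⁻¹) • g • f0 = 0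
      simp only [mul_smul, inv_smul_smul]
      rw [← smul_add, ← smul_add, show f0 + s • f0 + s • s • f0 = 0 from h.2, smul_zero]
  · refine le_trans ?_ (hf s hs)
    exact ncard_le_of_inj Prod.fst (Set.toFinite _) (fun p hp => hp.2.2)
      fun p hp q hq e => Prod.ext e (by rw [← hp.2.1, ← hq.2.1, e])

theorem kn_conj' (g s : Co1) : kn (g * s * g⁻¹) = kn s :=
  le_antisymm (by simpa [mul_assoc] using kn_conj g⁻¹ (g * s * g⁻¹)) (kn_conj g s)

theorem pk18 {v : L2} (hv : v ∈ S4) :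
    {s | s ∈ {g : Co1 | orderOf g = 3 ∧ 2 ^ 18 < kn g} ∧ R2 s (f0, v)}.ncard ≤ 1765 :=
  rot_le hv (fun s hs g => And.intro ((ord_conj g s).trans hs.1) (by rw [kn_conj']; exact hs.2)) nk18 (fun s _ => kn_le s)
    (by norm_num)

theorem pk16 {v : L2} (hv : v ∈ S4) :
    {s | s ∈ {g : Co1 | orderOf g = 3 ∧ 2 ^ 16 < kn g ∧ kn g ≤ 2 ^ 18} ∧ R2 s (f0, v)}.ncard ≤ 2945821 := by
  have := finCo
  exact rot_le hv (fun s hs g => And.intro ((ord_conj g s).trans hs.1) (by rw [kn_conj']; exact hs.2))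
    (le_trans (Set.ncard_le_ncard (fun _ h => And.intro h.1 h.2.1) (Set.toFinite _)) nk16) (fun s hs => hs.2.2)
    (by norm_num)

theorem pk {v : L2} (hv : v ∈ S4) :
    {s | s ∈ {g : Co1 | orderOf g = 3 ∧ kn g ≤ 2 ^ 16} ∧ R2 s (f0, v)}.ncard ≤ 17937787 := by
  have := finCo
  exact rot_le hv (fun s hs g => And.intro ((ord_conj g s).trans hs.1) (by rw [kn_conj']; exact hs.2))
    (le_trans (Set.ncard_le_ncard (fun _ h => h.1) (Set.toFinite _)) n3) (fun s hs => hs.2) (by norm_num)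

theorem p12 {v : L2} (hv : v ∈ S4) :
    {s | s ∈ {g : Co1 | orderOf g = 3 ∧ fr g = 2 ^ 12} ∧ R2 s (f0, v)}.ncard ≤ 9863 :=
  rot_le hv (fun s hs g => And.intro ((ord_conj g s).trans hs.1) (by rw [fr_conj]; exact hs.2)) n12'
    (fun _ hs => kn_twelve hs.2) (by norm_num)

/-! ### the centraliser of an involution -/

theorem cent_count {G : Type*} [Group G] [Finite G] {e : G} (he : orderOf e = 2) {r : ℕ} (hr : Odd r) :
    Nat.card G * {s | orderOf s = r ∧ s * e = e * s}.ncard ≤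
      {g : G | orderOf g = 2 * r}.ncard * Nat.card (centralizer ({e} : Set G)) := by
  have hco : Nat.Coprime r 2 := Nat.coprime_two_right.2 hr
  refine dc (fun g t : G => g ^ r = t * e * t⁻¹) (X := {g : G | orderOf g = 2 * r}) (Ob := Set.univ) (Set.toFinite _)
    (Set.toFinite _) (fun t _ => ?_) (fun g _ => ?_) |>.trans' (by rw [Set.ncard_univ])
  · obtain ⟨k, hk⟩ := hr
    have hee : e * e = 1 := by rw [← pow_two, ← he, pow_orderOf_eq_one]
    refine ncard_le_of_inj (fun s => t * (s * e) * t⁻¹) (Set.toFinite _) (fun s hs => ⟨?_, ?_⟩)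
      fun _ _ _ _ h => mul_right_cancel (mul_left_cancel (mul_right_cancel h))
    · show orderOf _ = _
      rw [ord_conj, (show Commute s e from hs.2).orderOf_mul_eq_mul_orderOf_of_coprime (by rw [hs.1, he]; exact hco),
        hs.1, he, mul_comm]
    · show (t * (s * e) * t⁻¹) ^ r = _
      rw [conj_pow, (show Commute s e from hs.2).mul_pow, ← hs.1, pow_orderOf_eq_one, hs.1, hk, pow_succ, pow_mul,
        pow_two, hee, one_pow, one_mul, one_mul]
  · refine ncard_le_of_quot fun a ha b hb => mem_centralizer_singleton_iff.2 ?_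
    have h : a * e * a⁻¹ = b * e * b⁻¹ := ha.2.symm.trans hb.2
    calc a⁻¹ * b * e = a⁻¹ * (b * e * b⁻¹) * b := by group
      _ = e * (a⁻¹ * b) := by rw [← h]; group

theorem co_count {o : golayCode} (Fo : H848.TenA.Facts o) {r n m : ℕ} (hr : Odd r)
    (hn : {g : Co1 | orderOf g = 2 * r}.ncard ≤ n) (hm : n * 89181388800 < NC * (m + 1)) :
    {s | orderOf s = r ∧ s ∈ CO o}.ncard ≤ m := by
  have := finCo
  have : Fact (Nat.Prime 2) := ⟨Nat.prime_two⟩
  have h := cent_count (e := eps o) (orderOf_eq_prime (by rw [pow_two, eps_mul_eps]) (H848.TenA.eps_ne Fo)) hr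
  rw [H68.CoMdl.card_co1] at h
  have h1 := (h.trans (Nat.mul_le_mul hn (Fo.card.trans (by norm_num : _ ≤ 89181388800)))).trans_lt hm
  refine le_trans (le_of_eq ?_) (Nat.lt_succ_iff.1 (Nat.lt_of_mul_lt_mul_left h1))
  simp only [mem_CO]

theorem co3 {o : golayCode} (Fo : H848.TenA.Facts o) : {s | orderOf s = 3 ∧ s ∈ CO o}.ncard ≤ 253940480 :=
  co_count Fo (by decide) n6 (by norm_num)

theorem co5 {o : golayCode} (Fo : H848.TenA.Facts o) : {s | orderOf s = 5 ∧ s ∈ CO o}.ncard ≤ 1012580352 :=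
  co_count Fo (by decide) n10 (by norm_num)

end Cfsg.Agent.SP.Mon.Two
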