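import Cfsg.Agent.SP.Mon.Two.Lift
import Cfsg.Agent.SP.Mon.NL.Pass

/-! # S5755, the Monster, 2-local subgroups: the `2A`-involutions and the `3A`-elements of `C(z)` -/

set_option autoImplicit false
set_option maxRecDepth 100000

namespace Cfsg.Agent.SP.Mon.Two

open Cfsg Cfsg.Agent.MonsterX Cfsg.Agent.MonsterX.InstData Cfsg.Agent.MonsterU Cfsg.Agent.MonsterU.Lam2
open Cfsg.Agent.MonsterX.MainBasic
open Cfsg.Agent.H816.MSch Cfsg.Agent.H816.IMEig Cfsg.Agent.H816.MCnt Cfsg.Agent.H816.MEnt Cfsg.Agent.H816.MCol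
open Cfsg.Agent.H816.M23.Tx Cfsg.Agent.H816.M23.Inst Cfsg.Agent.H816.M23.Abs
open Cfsg.Agent.BpSpor.MBigModel (MG zz pi chart cls)
open Cfsg.Agent.LThreeB.Row (TA)
open Cfsg.Agent.LThreeMB (fr fr_conj)
open Cfsg.Agent.SP.Mon.NL (QQ)
open Subgroup (centralizer mem_centralizer_singleton_iff)

theorem mt_odd : ∀ j : Fin 12, 2 ≤ j.1 → ∃ u w : Fin 9, (u = 3 ∨ u = 4 ∨ u = 7 ∨ u = 8) ∧ mt j.1 u w ≠ 0 := by
  decide +kernel

theorem CG_comm {g : MG} (hg : g ∈ CG) : g * zz = zz * g := by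
  rw [← zG_eq]
  exact Subtype.ext (hG.z_comm g.1 hg)

theorem b0_Q : tX H816.MSch.b0 ∈ QQ := ⟨KLinkInst.x₀, Subtype.ext (KDone.lnk.t₀_eq.symm.trans tX_b0.symm)⟩

theorem S_Q {s : XT} (hs : s ∈ SX) : tX s ∈ QQ := by
  obtain ⟨g, hg, e⟩ := hs
  have e' : s = (⟨g, C_le hg⟩ : MG) • H816.MSch.b0 := Subtype.ext e
  rw [e', tX_smul]
  exact chart.large.conj_mem _ (CG_comm hg) _ b0_Q

theorem not_comm_d {j : Fin 12} (hj : 2 ≤ j.1) : tX (dX j) * zz ≠ zz * tX (dX j) := by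
  intro h
  obtain ⟨u, w, hu, h0⟩ := mt_odd j hj
  rw [← hm] at h0
  obtain ⟨s, hs, hc, -⟩ := Set.nonempty_of_ncard_ne_zero h0
  have hq : (tX s * tX (dX j)) ^ 2 ∈ QQ := by
    rw [ax.sq_eq, tX_smul]
    exact QQ.mul_mem (S_Q hs) (chart.large.conj_mem _ h _ (S_Q hs))
  have h8 : (tX s * tX (dX j)) ^ 8 = 1 := by
    rw [show 8 = 2 * 2 * 2 from rfl, pow_mul, pow_mul, pow_two ((tX s * tX (dX j)) ^ 2)]
    rcases chart.large.sq _ hq with e | e <;> rw [e]
    · exact one_pow _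
    · rw [pow_two, chart.large.z_sq]
  rcases hu with rfl | rfl | rfl | rfl
  · exact ne_one (by rw [hc]; decide) (pow_one' h8 (ax.three _ _ hc) rfl)
  · exact ne_one (by rw [hc]; decide) (pow_one' h8 (ax.four _ _ hc) rfl)
  · exact ne_one (by rw [hc]; decide) (pow_one' h8 (ax.seven _ _ hc) rfl)
  · exact ax.eight_two hc (pow_gcd h8 (ax.eight_six hc))

theorem cover : ∀ x : XT, ∃ j : Fin 12, ∃ g ∈ CG, x = g • dX j := by
  rintro ⟨x, j, g, hg, hx⟩
  exact ⟨j, ⟨g, C_le hg⟩, hg, Subtype.ext hx⟩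

/-- **The `2A`-involutions commuting with `z`.** -/
theorem ta_cent : {t : MG | TA t ∧ t * zz = zz * t}.ncard ≤ 196560 + 11935123200 := by
  have h1 : {x : XT | tX x * zz = zz * tX x}.ncard ≤ 196560 + 11935123200 := by
    refine le_trans (ncard_cases (Y := {x : XT | ∃ g ∈ CG, x = g • dX 0}) (Z := {x : XT | ∃ g ∈ CG, x = g • dX 1})
      (Set.toFinite _) (Set.toFinite _) ?_) ?_
    · intro x hc
      obtain ⟨j, g, hg, rfl⟩ := cover x
      have hz := CG_comm hg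
      have h2 : ¬ 2 ≤ j.1 := fun hj => not_comm_d hj (by
        have h3 : tX _ * zz = zz * tX _ := hc
        rw [tX_smul] at h3
        have h4 := comm_mul (comm_mul (comm_inv hz) h3) hz
        rwa [mul_assoc _ _ g⁻¹, inv_mul_cancel_left, inv_mul_cancel_right] at h4)
      have h5 : ∀ k : Fin 12, ¬ 2 ≤ k.1 → k = 0 ∨ k = 1 := by decide
      rcases h5 j h2 with rfl | rfl
      · exact Or.inl ⟨_, hg, rfl⟩
      · exact Or.inr ⟨_, hg, rfl⟩
    · rw [hn, hn]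
      exact Nat.le_of_ble_eq_true (by decide +kernel)
  refine le_trans (Set.ncard_le_ncard (t := tX '' _) ?_ (Set.toFinite _)) ((Set.ncard_image_le (Set.toFinite _)).trans h1)
  rintro t ⟨h2, h3⟩
  obtain ⟨w, rfl⟩ := (ta_iff _).1 h2
  exact ⟨w, h3, rfl⟩

/-- a large centraliser -/
def Big (x : MG) : Prop := 3 ^ 13 * (448345497600 * 2) < Nat.card (centralizer ({x} : Set MG))

theorem big_conj {x : MG} (h : Big x) (t : MG) : Big (t⁻¹ * x * t) := by
  unfold Big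
  rwa [card_centralizer_conj]

open Cfsg.Agent.LThreeMB Cfsg.Agent.BpSpor.MBigModel Cfsg.Agent.H199.NSmMon Cfsg.Agent.MonsterU.TwoCls in
/-- **The elements of order 3 with a large centraliser.** -/
theorem big_fr {x : MG} (hz : x * zz = zz * x) (ho : orderOf x = 3) (hb : Big x) : fr (pp pi x) = 2 ^ 12 := by
  have := finite
  have := simple
  obtain ⟨x, rfl⟩ : ∃ c : centralizer ({zz} : Set MG), (c : MG) = x := ⟨⟨x, mem_centralizer_singleton_iff.2 hz⟩, rfl⟩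
  have hx : orderOf x = 3 := by rwa [Subgroup.orderOf_coe] at ho
  rw [pp_coe]
  unfold Big at hb
  have I := CoOneFin.coOne
  have htr := KPair.trNe KDone.lft LThreeB.Row.cent (LThreeMBTr.traceNe KDone.lft LThreeMBTr.TensK.tens)
  rcases I.ranks (pi x) (orderOf_pi chart hx) with h1 | h1 | h1 | h1
  · exact absurd (Nat.le_of_dvd (by norm_num) (H199.AbMon.three_zero' hx h1)) (not_le.2 hb)
  · obtain ⟨x₀, u, g, hx₀, hfr₀, huz, hux, hne, hg⟩ :=
      KPair.hasPair KDone.lft LThreeB.Row.cent PreUniq.MonRow.second COct.octPair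
    obtain ⟨k, hk⟩ := conj_six chart htr I.ranks I.six
      (fun x hx h2 => ⟨(good_of_inputs chart I hx h2 : LThreeMB.Good.{0} _).simple,
        (good_of_inputs chart I hx h2 : LThreeMB.Good.{0} _).nc⟩)
      hx₀ hfr₀ huz hux hne hg hx h1
    rw [← BpSpor.card_cent_of_conj hk] at hb
    exact absurd (Nat.le_of_dvd (by norm_num) (H199.AbMon.three_zero' hx₀ hfr₀)) (not_le.2 hb)
  · obtain ⟨e⟩ := LThreeB.isoTh_of_inputs chart I hx h1
    rw [card_XX, ho, Nat.card_congr e.toEquiv, Cfsg.Agent.S1700.result.2] at hb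
    norm_num at hb
  · exact h1

end Cfsg.Agent.SP.Mon.Two
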